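import Groth.Agent.Lib.PolLaw.SymFlat
import Mathlib.LinearAlgebra.TensorProduct.Basis
import Mathlib.LinearAlgebra.TensorProduct.Finiteness
import Mathlib.LinearAlgebra.TensorProduct.RightExactness

/-!
Symmetric tensors of a flat module commute with base change.
-/

universe u

open TensorProduct

set_option maxHeartbeats 400000

namespace GrothLib.SymAF26

open GrothLib.PolLaw

variable {A : Type u} [CommRing A] {d : ℕ} {M : Type u} [AddCommGroup M] [Module A M]
  (R' : Type u) [CommRing R'] [Algebra A R']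

section free

variable {k : ℕ}

/-- Invariant elements of a base changed tensor power of a finite free module are symmetric tensors. -/
theorem mem_range_of_invariant_free (z : R' ⊗[A] (⨂[A] _ : Fin d, (Fin k →₀ A)))
    (hz : ∀ σ : Equiv.Perm (Fin d),
      (PiTensorProduct.reindex A (fun _ : Fin d => (Fin k →₀ A)) σ).toLinearMap.lTensor R' z = z) :
    z ∈ LinearMap.range ((symTensor A (Fin k →₀ A) d).subtype.lTensor R') := by
  classical
  let B : Module.Basis (Fin d → Fin k) A (⨂[A] _ : Fin d, (Fin k →₀ A)) :=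
    Basis.piTensorProduct fun _ : Fin d => Finsupp.basisSingleOne
  let B' := B.baseChange R'
  have hBσ : ∀ (σ : Equiv.Perm (Fin d)) q,
      PiTensorProduct.reindex A (fun _ : Fin d => (Fin k →₀ A)) σ (B q) = B (q ∘ σ.symm) := by
    intro σ q
    simp only [B, Basis.piTensorProduct_apply, PiTensorProduct.reindex_tprod, Function.comp_apply]
  have hcoord : ∀ (σ : Equiv.Perm (Fin d)) q, B'.repr z (q ∘ σ.symm) = B'.repr z q := by
    intro σ q
    have key : B'.repr ((PiTensorProduct.reindex A (fun _ : Fin d => (Fin k →₀ A)) σ).toLinearMap.lTensor R' z)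
        (q ∘ σ.symm) = B'.repr z q := by
      generalize z = y
      induction y using TensorProduct.induction_on with
      | zero => simp
      | add x y hx hy => simp only [map_add, Finsupp.add_apply, hx, hy]
      | tmul c t =>
        simp only [LinearMap.lTensor_tmul, B', Module.Basis.baseChange_repr_tmul]
        congr 1
        induction t using PiTensorProduct.induction_on with
        | add x y hx hy => simp only [map_add, Finsupp.add_apply, hx, hy]
        | smul_tprod r f =>
          simp only [LinearEquiv.coe_coe, map_smul, Finsupp.smul_apply, PiTensorProduct.reindex_tprod, B,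
            Basis.piTensorProduct_repr_tprod_apply, Function.comp_apply]
          congr 1
          exact Equiv.prod_comp σ.symm (fun j => Finsupp.basisSingleOne.repr (f j) (q j))
    rwa [hz] at key
  rw [← B'.sum_repr z, ← Finset.sum_fiberwise_of_maps_to (g := fun q : Fin d → Fin k => pat q)
    (t := Finset.univ.image fun q : Fin d → Fin k => pat q) (fun q hq => Finset.mem_image_of_mem _ hq)]
  refine Submodule.sum_mem _ fun ν _ => ?_
  rcases Finset.eq_empty_or_nonempty (Finset.univ.filter fun q : Fin d → Fin k => pat q = ν) with h | ⟨q₀, hq₀⟩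
  · rw [h, Finset.sum_empty]; exact zero_mem _
  have hq₀' : pat q₀ = ν := (Finset.mem_filter.mp hq₀).2
  let o := ∑ q ∈ Finset.univ.filter (fun q : Fin d → Fin k => pat q = ν), B q
  have ho : o ∈ symTensor A (Fin k →₀ A) d := mem_symTensor.mpr fun σ => by
    simp only [o, map_sum, hBσ]
    refine Finset.sum_bij (fun q _ => q ∘ σ.symm) ?_ ?_ ?_ fun q _ => rfl
    · intro q hq
      simp only [Finset.mem_filter, Finset.mem_univ, true_and] at hq ⊢
      rw [pat_comp_perm, hq]
    · exact fun p _ q _ h => funext fun l => by simpa using congrFun h (σ l)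
    · intro q hq
      simp only [Finset.mem_filter, Finset.mem_univ, true_and] at hq
      exact ⟨q ∘ σ, Finset.mem_filter.mpr ⟨Finset.mem_univ _, by rw [pat_comp_perm, hq]⟩,
        funext fun l => by simp⟩
  refine ⟨B'.repr z q₀ ⊗ₜ ⟨o, ho⟩, ?_⟩
  rw [LinearMap.lTensor_tmul, Submodule.subtype_apply]
  simp only [o, TensorProduct.tmul_sum]
  refine Finset.sum_congr rfl fun q hq => ?_
  obtain ⟨σ, hσ⟩ := exists_perm_of_pat_eq ((Finset.mem_filter.mp hq).2.trans hq₀'.symm)
  have e : B'.repr z q = B'.repr z q₀ := by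
    rw [← hcoord σ.symm q₀, Equiv.symm_symm, hσ]
  rw [e, Module.Basis.baseChange_apply, TensorProduct.smul_tmul', smul_eq_mul, mul_one]

end free

theorem mem_range_lTensor_ker {N P : Type u} [AddCommGroup N] [Module A N] [AddCommGroup P] [Module A P]
    (Φ : N →ₗ[A] P) (hs : Function.Surjective Φ) (z : R' ⊗[A] N) (hz : Φ.lTensor R' z = 0) :
    z ∈ LinearMap.range ((LinearMap.ker Φ).subtype.lTensor R') :=
  (lTensor_exact R' (LinearMap.exact_subtype_ker_map Φ) hs z).mp hz

theorem mem_span_of_lTensor_tmap_eq_zero {L L' : Type u} [AddCommGroup L] [Module A L] [AddCommGroup L']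
    [Module A L'] (π : L →ₗ[A] L') (hπ : Function.Surjective π) (z : R' ⊗[A] (⨂[A] _ : Fin d, L))
    (hz : (tmap₁ π).lTensor R' z = 0) :
    z ∈ Submodule.span A {y : R' ⊗[A] (⨂[A] _ : Fin d, L) |
      ∃ (c : R') (f : Fin d → L) (j : Fin d), π (f j) = 0 ∧ y = c ⊗ₜ PiTensorProduct.tprod A f} := by
  have hsurj : Function.Surjective (tmap₁ (d := d) π) := fun z => by
    induction z using PiTensorProduct.induction_on with
    | smul_tprod r f =>
      choose g hg using fun i => hπ (f i)
      exact ⟨r • PiTensorProduct.tprod A g, by simp [tmap₁, PiTensorProduct.map_tprod, hg]⟩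
    | add a b ha hb =>
      obtain ⟨a, rfl⟩ := ha
      obtain ⟨b, rfl⟩ := hb
      exact ⟨a + b, map_add _ _ _⟩
  obtain ⟨w, rfl⟩ := mem_range_lTensor_ker R' _ hsurj z hz
  clear hz
  induction w using TensorProduct.induction_on with
  | zero => simp
  | add x y hx hy => rw [map_add]; exact add_mem hx hy
  | tmul c t =>
    rw [LinearMap.lTensor_tmul, Submodule.subtype_apply]
    have h : TensorProduct.mk A R' (⨂[A] _ : Fin d, L) c t.1 ∈
        (Submodule.span A {x | ∃ (f : Fin d → L) (j : Fin d), π (f j) = 0 ∧ x = PiTensorProduct.tprod A f}).map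
          (TensorProduct.mk A R' (⨂[A] _ : Fin d, L) c) := Submodule.mem_map_of_mem (ker_tmap₁_le π hπ t.2)
    rw [Submodule.map_span] at h
    refine Submodule.span_mono ?_ h
    rintro _ ⟨_, ⟨f, j, hf, rfl⟩, rfl⟩
    exact ⟨c, f, j, hf, rfl⟩

variable [Module.Flat A M]

set_option maxHeartbeats 400000 in
/-- A base changed tensor killed in the tensor power of a flat module is killed at a finite free stage. -/
theorem exists_kill_bc {L : Type u} [AddCommGroup L] [Module A L] [Module.Free A L] [Module.Finite A L]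
    (x : L →ₗ[A] M) {t : R' ⊗[A] (⨂[A] _ : Fin d, L)} (ht : (tmap₁ x).lTensor R' t = 0) :
    ∃ (k : ℕ) (a : L →ₗ[A] (Fin k →₀ A)) (y : (Fin k →₀ A) →ₗ[A] M),
      x = y ∘ₗ a ∧ (tmap₁ a).lTensor R' t = 0 := by
  classical
  let π : L × (M →₀ A) →ₗ[A] M := x.coprod (Finsupp.linearCombination A (id : M → M))
  have hπ : Function.Surjective π := fun m => ⟨(0, Finsupp.single m 1), by simp [π]⟩
  obtain ⟨N, c, g, hg⟩ := Submodule.mem_span_set'.mp (mem_span_of_lTensor_tmap_eq_zero R' π hπ
    ((tmap₁ (LinearMap.inl A L (M →₀ A))).lTensor R' t) (by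
      rw [← LinearMap.comp_apply, ← LinearMap.lTensor_comp,
        show (tmap₁ (d := d) π).comp (tmap₁ (LinearMap.inl A L (M →₀ A))) = tmap₁ x from
          LinearMap.ext fun z => by rw [LinearMap.comp_apply, ← tmap₁_comp]; simp [π, LinearMap.coprod_inl]]
      exact ht))
  choose r f j hfj hgf using fun i => (g i).2
  let s : Finset M := Finset.univ.biUnion fun p : Fin N => ((f p (j p)).2).support
  let ρ : L × (M →₀ A) →ₗ[A] L × (s →₀ A) :=
    LinearMap.id.prodMap (Finsupp.lsubtypeDomain (R := A) (M := A) (s : Set M))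
  let x₁ : L × (s →₀ A) →ₗ[A] M := x.coprod (Finsupp.linearCombination A ((↑) : s → M))
  let v : Fin N → L × (s →₀ A) := fun p => ρ (f p (j p))
  have hv : ∀ p, x₁ (v p) = 0 := by
    intro p
    rw [← hfj p]
    have hsub : (↑((f p (j p)).2).support : Set M) ⊆ (s : Set M) := fun m hm => by
      simp only [s, Finset.coe_biUnion, Set.mem_iUnion]
      exact ⟨p, Finset.mem_univ p, hm⟩
    simp only [v, x₁, π, ρ, LinearMap.prodMap_apply, LinearMap.coprod_apply, LinearMap.id_coe, id]
    congr 1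
    rw [Finsupp.linearCombination_apply, Finsupp.linearCombination_apply]
    exact Finsupp.sum_subtypeDomain_index (p := fun m => m ∈ (s : Set M))
      (h := fun m a => a • m) fun m hm => hsub hm
  have : Module.Free A (L × (s →₀ A)) :=
    Module.Free.of_basis ((Module.Free.chooseBasis A L).prod Finsupp.basisSingleOne)
  have : Module.Finite A (L × (s →₀ A)) :=
    Module.Finite.of_basis ((Module.Free.chooseBasis A L).prod Finsupp.basisSingleOne)
  obtain ⟨k, a, y, hxy, hav⟩ := Module.Flat.exists_factorization_of_comp_eq_zero_of_free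
    (f := Finsupp.linearCombination A v) (x := x₁) (by
      refine Finsupp.lhom_ext fun p r => ?_
      simp [hv])
  refine ⟨k, a ∘ₗ LinearMap.inl A L (s →₀ A), y, ?_, ?_⟩
  · rw [← LinearMap.comp_assoc, ← hxy]
    simp [x₁, LinearMap.coprod_inl]
  · have e : a ∘ₗ LinearMap.inl A L (s →₀ A) = (a ∘ₗ ρ) ∘ₗ LinearMap.inl A L (M →₀ A) := by
      ext l
      simp [ρ]
    rw [e, show tmap₁ (d := d) ((a ∘ₗ ρ) ∘ₗ LinearMap.inl A L (M →₀ A)) =
      (tmap₁ (a ∘ₗ ρ)).comp (tmap₁ (LinearMap.inl A L (M →₀ A))) from LinearMap.ext fun z => tmap₁_comp _ _ z,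
      LinearMap.lTensor_comp, LinearMap.comp_apply, ← hg, map_sum]
    refine Finset.sum_eq_zero fun i _ => ?_
    rw [map_smul, hgf i, LinearMap.lTensor_tmul, tmap₁, PiTensorProduct.map_tprod,
      MultilinearMap.map_coord_zero _ (j i), TensorProduct.tmul_zero, smul_zero]
    have := DFunLike.congr_fun hav (Finsupp.single i 1)
    simpa [v] using! this

omit [Module.Flat A M] in
/-- A base changed tensor of a flat module comes from a finite free stage. -/
theorem exists_lift_bc (z : R' ⊗[A] (⨂[A] _ : Fin d, M)) :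
    ∃ (n : ℕ) (y : (Fin n →₀ A) →ₗ[A] M) (z₀ : R' ⊗[A] (⨂[A] _ : Fin d, (Fin n →₀ A))),
      (tmap₁ y).lTensor R' z₀ = z := by
  induction z using TensorProduct.induction_on with
  | zero => exact ⟨0, 0, 0, map_zero _⟩
  | tmul c t =>
    obtain ⟨n, y, t₀, rfl⟩ := exists_lift_tensor t
    exact ⟨n, y, c ⊗ₜ t₀, rfl⟩
  | add z₁ z₂ h₁ h₂ =>
    obtain ⟨n₁, y₁, s₁, rfl⟩ := h₁
    obtain ⟨n₂, y₂, s₂, rfl⟩ := h₂
    let e : (Fin (n₁ + n₂) →₀ A) ≃ₗ[A] (Fin n₁ →₀ A) × (Fin n₂ →₀ A) :=
      (Finsupp.domLCongr finSumFinEquiv.symm).trans (Finsupp.sumFinsuppLEquivProdFinsupp A)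
    let i₁ := e.symm.toLinearMap ∘ₗ LinearMap.inl A (Fin n₁ →₀ A) (Fin n₂ →₀ A)
    let i₂ := e.symm.toLinearMap ∘ₗ LinearMap.inr A (Fin n₁ →₀ A) (Fin n₂ →₀ A)
    let y := (y₁.coprod y₂) ∘ₗ e.toLinearMap
    have hy₁ : (tmap₁ (d := d) y).comp (tmap₁ i₁) = tmap₁ y₁ := LinearMap.ext fun t => by
      rw [LinearMap.comp_apply, ← tmap₁_comp, show y ∘ₗ i₁ = y₁ from LinearMap.ext fun x => by simp [y, i₁]]
    have hy₂ : (tmap₁ (d := d) y).comp (tmap₁ i₂) = tmap₁ y₂ := LinearMap.ext fun t => by
      rw [LinearMap.comp_apply, ← tmap₁_comp, show y ∘ₗ i₂ = y₂ from LinearMap.ext fun x => by simp [y, i₂]]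
    refine ⟨n₁ + n₂, y, (tmap₁ i₁).lTensor R' s₁ + (tmap₁ i₂).lTensor R' s₂, ?_⟩
    rw [map_add, ← LinearMap.comp_apply, ← LinearMap.lTensor_comp, hy₁, ← LinearMap.comp_apply,
      ← LinearMap.lTensor_comp, hy₂]

/-- Invariant elements of a base changed tensor power of a flat module come from symmetric tensors. -/
theorem mem_range_of_invariant (z : R' ⊗[A] (⨂[A] _ : Fin d, M))
    (hz : ∀ σ : Equiv.Perm (Fin d),
      (PiTensorProduct.reindex A (fun _ : Fin d => M) σ).toLinearMap.lTensor R' z = z) :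
    z ∈ LinearMap.range ((symTensor A M d).subtype.lTensor R') := by
  classical
  have key : ∀ S : Finset (Equiv.Perm (Fin d)), ∃ (n : ℕ) (y : (Fin n →₀ A) →ₗ[A] M)
      (z₀ : R' ⊗[A] (⨂[A] _ : Fin d, (Fin n →₀ A))),
      (∀ σ ∈ S, (PiTensorProduct.reindex A (fun _ : Fin d => (Fin n →₀ A)) σ).toLinearMap.lTensor R' z₀ = z₀) ∧
        (tmap₁ y).lTensor R' z₀ = z := by
    intro S
    induction S using Finset.induction_on with
    | empty =>
      obtain ⟨n, y, z₀, h⟩ := exists_lift_bc R' z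
      exact ⟨n, y, z₀, by simp, h⟩
    | insert σ S _ ih =>
      obtain ⟨n, y, z₀, hS, hy⟩ := ih
      have hc : ∀ {L L' : Type u} [AddCommGroup L] [Module A L] [AddCommGroup L'] [Module A L']
          (h : L →ₗ[A] L') (τ : Equiv.Perm (Fin d)) (w : R' ⊗[A] (⨂[A] _ : Fin d, L)),
          (tmap₁ h).lTensor R' ((PiTensorProduct.reindex A (fun _ : Fin d => L) τ).toLinearMap.lTensor R' w) =
          (PiTensorProduct.reindex A (fun _ : Fin d => L') τ).toLinearMap.lTensor R' ((tmap₁ h).lTensor R' w) := by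
        intro L L' _ _ _ _ h τ w
        simp only [← LinearMap.comp_apply, ← LinearMap.lTensor_comp]
        congr 2
        exact LinearMap.ext fun t => tmap₁_reindex h τ t
      obtain ⟨k, a, y', hyy, hat⟩ := exists_kill_bc R' y
        (t := (PiTensorProduct.reindex A (fun _ : Fin d => (Fin n →₀ A)) σ).toLinearMap.lTensor R' z₀ - z₀) (by
          rw [map_sub, hc, hy, hz σ, sub_self])
      refine ⟨k, y', (tmap₁ a).lTensor R' z₀, fun τ hτ => ?_, ?_⟩
      · rcases Finset.mem_insert.mp hτ with rfl | hτ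
        · rw [← hc, ← sub_eq_zero, ← map_sub, hat]
        · rw [← hc, hS τ hτ]
      · rw [← hy, hyy, ← LinearMap.comp_apply, ← LinearMap.lTensor_comp]
        congr 2
        exact LinearMap.ext fun t => (tmap₁_comp y' a t).symm
  obtain ⟨n, y, z₀, hz₀, rfl⟩ := key Finset.univ
  obtain ⟨w, rfl⟩ := mem_range_of_invariant_free R' z₀ fun σ => hz₀ σ (Finset.mem_univ σ)
  refine ⟨((tmap₁ y).restrict fun _ h => tmap₁_mem_symTensor y h).lTensor R' w, ?_⟩
  simp only [← LinearMap.comp_apply, ← LinearMap.lTensor_comp]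
  congr 2

/-- The symmetric tensors of a flat module stay inside the tensor power after base change. -/
theorem injective_lTensor_subtype :
    Function.Injective ((symTensor A M d).subtype.lTensor R') := by
  classical
  refine (injective_iff_map_eq_zero _).mpr fun w hw => ?_
  obtain ⟨S, rfl⟩ := TensorProduct.exists_finset w
  let e := S.equivFin
  let t : Fin S.card → symTensor A M d := fun i => (e.symm i).1.2
  have hsum : ∑ i ∈ S, i.1 ⊗ₜ[A] i.2 = ∑ i, (e.symm i).1.1 ⊗ₜ[A] t i := by
    rw [← Finset.sum_coe_sort, ← e.symm.sum_comp]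
  rw [hsum] at hw ⊢
  obtain ⟨n, y, t₀, ht₀, hy⟩ := exists_symm_lift_family (fun i => (t i : ⨂[A] _ : Fin d, M)) fun i => (t i).2
  obtain ⟨k, a, y', rfl, hat⟩ := exists_kill_bc R' y (t := ∑ i, (e.symm i).1.1 ⊗ₜ[A] t₀ i) (by
    rw [map_sum]
    simp only [LinearMap.lTensor_tmul, hy]
    rw [map_sum] at hw
    exact hw)
  let b : Module.Basis (ULift.{u} (Fin k)) A (Fin k →₀ A) :=
    (Finsupp.basisSingleOne (R := A) (ι := ULift.{u} (Fin k))).map (Finsupp.domLCongr Equiv.ulift)
  obtain ⟨r, hr⟩ := exists_retraction_symTensor (d := d) b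
  let g : symTensor A (Fin k →₀ A) d →ₗ[A] symTensor A M d :=
    (tmap₁ y').restrict fun _ h => tmap₁_mem_symTensor y' h
  have e1 : ∀ i, t i = g (r (tmap₁ a (t₀ i))) := fun i => by
    have h1 := LinearMap.congr_fun hr ⟨_, tmap₁_mem_symTensor a (ht₀ i)⟩
    simp only [LinearMap.comp_apply, Submodule.subtype_apply, LinearMap.id_apply] at h1
    rw [h1]
    refine Subtype.ext ?_
    show _ = tmap₁ y' (tmap₁ a (t₀ i))
    rw [← tmap₁_comp]
    exact (hy i).symm
  have e2 : ∑ i, (e.symm i).1.1 ⊗ₜ[A] t i =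
      (g ∘ₗ r).lTensor R' ((tmap₁ a).lTensor R' (∑ i, (e.symm i).1.1 ⊗ₜ[A] t₀ i)) := by
    simp only [map_sum, LinearMap.lTensor_tmul, e1, LinearMap.comp_apply]
  rw [e2, hat, map_zero]

end GrothLib.SymAF26
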