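import Groth.Agent.Lib.SymAF26.Flat
import Groth.Agent.Lib.SymAF26.TensorInv
import Groth.Agent.Lib.SGA1Quot21.BaseChange

/-!
Symmetric products of flat (AF) morphisms commute with base change.
-/

universe u

open CategoryTheory CategoryTheory.Limits AlgebraicGeometry TensorProduct

set_option maxHeartbeats 400000

namespace GrothLib.SymAF26

variable {X S S' Y : Scheme.{u}} {f : X ⟶ S} {d : ℕ} {b : S' ⟶ S}

/-- The fibre power of the base change is the base change of the fibre power. -/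
theorem isPullback_fibPow (c : SymProd.fibPow (pullback.snd f b) d ⟶ SymProd.fibPow f d)
    (hcπ : ∀ i, c ≫ WidePullback.π (fun _ => f) i = WidePullback.π (fun _ => pullback.snd f b) i ≫ pullback.fst f b)
    (hcb : c ≫ WidePullback.base (fun _ => f) = WidePullback.base (fun _ => pullback.snd f b) ≫ b) :
    IsPullback c (WidePullback.base (fun _ : Fin d => pullback.snd f b)) (WidePullback.base (fun _ : Fin d => f)) b := by
  refine ⟨⟨hcb⟩, ⟨PullbackCone.IsLimit.mk hcb
    (fun s => WidePullback.lift s.snd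
      (fun i => pullback.lift (s.fst ≫ WidePullback.π (fun _ => f) i) s.snd
        (by rw [Category.assoc, WidePullback.π_arrow, s.condition]))
      (fun i => pullback.lift_snd _ _ _))
    (fun s => WidePullback.hom_ext _ _ _
      (fun i => by rw [Category.assoc, hcπ, WidePullback.lift_π_assoc, pullback.lift_fst])
      (by rw [Category.assoc, hcb, WidePullback.lift_base_assoc, s.condition]))
    (fun s => WidePullback.lift_base _ _ _ _)
    (fun s m h₁ h₂ => WidePullback.hom_ext _ _ _ (fun i => ?_) (by rw [h₂, WidePullback.lift_base]))⟩⟩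
  rw [WidePullback.lift_π]
  apply pullback.hom_ext
  · rw [pullback.lift_fst, Category.assoc, ← hcπ, reassoc_of% h₁]
  · rw [pullback.lift_snd, Category.assoc, WidePullback.π_arrow, h₂]

variable {q : SymProd.fibPow f d ⟶ Y} {g : Y ⟶ S}

theorem isPullback_quot (hq : SymProd.IsSymProd f d q g)
    (c : SymProd.fibPow (pullback.snd f b) d ⟶ SymProd.fibPow f d)
    (hcπ : ∀ i, c ≫ WidePullback.π (fun _ => f) i = WidePullback.π (fun _ => pullback.snd f b) i ≫ pullback.fst f b)
    (hcb : c ≫ WidePullback.base (fun _ => f) = WidePullback.base (fun _ => pullback.snd f b) ≫ b)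
    (q' : SymProd.fibPow (pullback.snd f b) d ⟶ pullback g b)
    (hq'₁ : q' ≫ pullback.fst g b = c ≫ q)
    (hq'₂ : q' ≫ pullback.snd g b = WidePullback.base (fun _ => pullback.snd f b)) :
    IsPullback c q' q (pullback.fst g b) := by
  refine IsPullback.of_bot ?_ hq'₁.symm (IsPullback.of_hasPullback g b)
  rw [hq.over, hq'₂]
  exact isPullback_fibPow c hcπ hcb

/-- Over an affine piece, the invariant sections of the base change are the base changed symmetric tensors. -/
theorem sections_symProd [Flat f] (hq : SymProd.IsSymProd f d q g)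
    (c : SymProd.fibPow (pullback.snd f b) d ⟶ SymProd.fibPow f d)
    (hcπ : ∀ i, c ≫ WidePullback.π (fun _ => f) i = WidePullback.π (fun _ => pullback.snd f b) i ≫ pullback.fst f b)
    (hcb : c ≫ WidePullback.base (fun _ => f) = WidePullback.base (fun _ => pullback.snd f b) ≫ b)
    (q' : SymProd.fibPow (pullback.snd f b) d ⟶ pullback g b)
    (hq'₁ : q' ≫ pullback.fst g b = c ≫ q)
    (hq'₂ : q' ≫ pullback.snd g b = WidePullback.base (fun _ => pullback.snd f b))
    (hinv : ∀ σ, (SymProd.permActU (pullback.snd f b) d σ).hom ≫ q' = q')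
    {U : X.Opens} {V : S.Opens} (hU : IsAffineOpen U) (hV : IsAffineOpen V) (hUV : U ≤ f ⁻¹ᵁ V)
    {W' : Y.Opens} (hW' : IsAffineOpen W') (e : q ⁻¹ᵁ W' = chart f d U V)
    {V' : S'.Opens} (hV' : IsAffineOpen V') (hV'V : V' ≤ b ⁻¹ᵁ V)
    {W'' : (pullback g b).Opens} (hW'' : W'' = pullback.fst g b ⁻¹ᵁ W' ⊓ pullback.snd g b ⁻¹ᵁ V') :
    Function.Injective (q'.app W'').hom ∧ ∀ s, SGA1Quot21.IsInv (SymProd.permActU (pullback.snd f b) d) q' hinv W'' s →
      s ∈ Set.range (q'.app W'').hom := by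
  have hW'V := le_preimage_of_chart hq e
  have hW : IsAffineOpen (chart f d U V) := isAffineOpen_chart f d hU hV hUV
  have hWV := chart_le_base f d U V
  have hWσ : ∀ σ, chart f d U V ≤ (SymProd.permHom f d σ) ⁻¹ᵁ chart f d U V := fun σ => (preimage_chart f d U V σ).ge
  have hWX : q' ⁻¹ᵁ W'' = c ⁻¹ᵁ chart f d U V ⊓ (WidePullback.base (fun _ : Fin d => pullback.snd f b)) ⁻¹ᵁ V' := by
    rw [hW'', Scheme.Hom.preimage_inf, ← Scheme.Hom.comp_preimage, ← Scheme.Hom.comp_preimage, hq'₁, hq'₂,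
      Scheme.Hom.comp_preimage, e]
  have hsY : IsPullback (pullback.fst g b) (pullback.snd g b) g b := IsPullback.of_hasPullback g b
  have hsF := isPullback_fibPow c hcπ hcb
  have poY := (isIso_pushoutSection_iff hsY hV'V hW'V hW'').1
    (isIso_pushoutSection_of_isAffineOpen hsY hV'V hW'V hW'' hV hV' hW')
  have poF := (isIso_pushoutSection_iff hsF hV'V hWV hWX).1
    (isIso_pushoutSection_of_isAffineOpen hsF hV'V hWV hWX hV hV' hW)
  letI : Algebra Γ(S, V) Γ(X, U) := (f.appLE V U hUV).hom.toAlgebra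
  haveI : Module.Flat Γ(S, V) Γ(X, U) := f.flat_appLE hV hU hUV
  letI : Algebra Γ(S, V) Γ(SymProd.fibPow f d, chart f d U V) :=
    ((WidePullback.base (fun _ : Fin d => f)).appLE V (chart f d U V) hWV).hom.toAlgebra
  letI : Algebra Γ(S, V) Γ(Y, W') := (g.appLE V W' hW'V).hom.toAlgebra
  letI : Algebra Γ(S, V) Γ(S', V') := (b.appLE V V' hV'V).hom.toAlgebra
  have hfstle : W'' ≤ pullback.fst g b ⁻¹ᵁ W' := hW'' ▸ inf_le_left
  have hsndle : W'' ≤ pullback.snd g b ⁻¹ᵁ V' := hW'' ▸ inf_le_right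
  have hcle : q' ⁻¹ᵁ W'' ≤ c ⁻¹ᵁ chart f d U V := hWX ▸ inf_le_left
  have hble : q' ⁻¹ᵁ W'' ≤ (WidePullback.base (fun _ : Fin d => pullback.snd f b)) ⁻¹ᵁ V' := hWX ▸ inf_le_right
  letI : Algebra Γ(S', V') Γ(pullback g b, W'') := ((pullback.snd g b).appLE V' W'' hsndle).hom.toAlgebra
  letI : Algebra Γ(Y, W') Γ(pullback g b, W'') := ((pullback.fst g b).appLE W' W'' hfstle).hom.toAlgebra
  letI : Algebra Γ(S, V) Γ(pullback g b, W'') :=
    (b.appLE V V' hV'V ≫ (pullback.snd g b).appLE V' W'' hsndle).hom.toAlgebra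
  haveI : IsScalarTower Γ(S, V) Γ(S', V') Γ(pullback g b, W'') := .of_algebraMap_eq' rfl
  haveI : IsScalarTower Γ(S, V) Γ(Y, W') Γ(pullback g b, W'') :=
    .of_algebraMap_eq' (congrArg CommRingCat.Hom.hom poY.w.symm)
  haveI : Algebra.IsPushout Γ(S, V) Γ(S', V') Γ(Y, W') Γ(pullback g b, W'') :=
    CommRingCat.isPushout_iff_isPushout.1 poY.flip
  letI : Algebra Γ(S', V') Γ(SymProd.fibPow (pullback.snd f b) d, q' ⁻¹ᵁ W'') :=
    ((WidePullback.base (fun _ : Fin d => pullback.snd f b)).appLE V' (q' ⁻¹ᵁ W'') hble).hom.toAlgebra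
  letI : Algebra Γ(SymProd.fibPow f d, chart f d U V) Γ(SymProd.fibPow (pullback.snd f b) d, q' ⁻¹ᵁ W'') :=
    (c.appLE (chart f d U V) (q' ⁻¹ᵁ W'') hcle).hom.toAlgebra
  letI : Algebra Γ(S, V) Γ(SymProd.fibPow (pullback.snd f b) d, q' ⁻¹ᵁ W'') :=
    (b.appLE V V' hV'V ≫
      (WidePullback.base (fun _ : Fin d => pullback.snd f b)).appLE V' (q' ⁻¹ᵁ W'') hble).hom.toAlgebra
  haveI : IsScalarTower Γ(S, V) Γ(S', V') Γ(SymProd.fibPow (pullback.snd f b) d, q' ⁻¹ᵁ W'') :=
    .of_algebraMap_eq' rfl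
  haveI : IsScalarTower Γ(S, V) Γ(SymProd.fibPow f d, chart f d U V)
      Γ(SymProd.fibPow (pullback.snd f b) d, q' ⁻¹ᵁ W'') :=
    .of_algebraMap_eq' (congrArg CommRingCat.Hom.hom poF.w.symm)
  haveI : Algebra.IsPushout Γ(S, V) Γ(S', V') Γ(SymProd.fibPow f d, chart f d U V)
      Γ(SymProd.fibPow (pullback.snd f b) d, q' ⁻¹ᵁ W'') := CommRingCat.isPushout_iff_isPushout.1 poF.flip
  let e₁ := Algebra.IsPushout.equiv Γ(S, V) Γ(S', V') Γ(Y, W') Γ(pullback g b, W'')
  let e₂ := Algebra.IsPushout.equiv Γ(S, V) Γ(S', V') Γ(SymProd.fibPow f d, chart f d U V)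
    Γ(SymProd.fibPow (pullback.snd f b) d, q' ⁻¹ᵁ W'')
  obtain ⟨ε, L, hεL, hεσ⟩ := exists_symTensor_equiv hq hU hV hUV rfl e hWV hWσ hW'V
  let ι₀ : Γ(Y, W') →ₗ[Γ(S, V)] Γ(SymProd.fibPow f d, chart f d U V) :=
    ε.toLinearMap ∘ₗ (PolLaw.symTensor Γ(S, V) Γ(X, U) d).subtype ∘ₗ L.toLinearMap
  have hι : ∀ w, ι₀ w = (q.appLE W' (chart f d U V) e.ge).hom w := hεL
  have hq' : ∀ z, (q'.app W'').hom (e₁ z) = e₂ (ι₀.lTensor Γ(S', V') z) := by
    intro z
    induction z using TensorProduct.induction_on with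
    | zero => simp
    | add z w hz hw => simp only [map_add, hz, hw]
    | tmul r w =>
      rw [LinearMap.lTensor_tmul, Algebra.IsPushout.equiv_tmul, Algebra.IsPushout.equiv_tmul, map_mul, hι,
        Scheme.Hom.app_eq_appLE]
      congr 1
      · show (q'.appLE W'' _ le_rfl).hom (((pullback.snd g b).appLE V' W'' hsndle).hom r) = _
        rw [appLE_comp_apply]
        exact appLE_congr_app hq'₂ _ _ _ r
      · show (q'.appLE W'' _ le_rfl).hom (((pullback.fst g b).appLE W' W'' hfstle).hom w) =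
          (c.appLE _ _ hcle).hom ((q.appLE W' (chart f d U V) e.ge).hom w)
        rw [appLE_comp_apply, appLE_comp_apply]
        exact appLE_congr_app hq'₁ _ _ _ w
  refine ⟨fun x y hxy => ?_, fun s hs => ?_⟩
  · obtain ⟨x, rfl⟩ := e₁.surjective x
    obtain ⟨y, rfl⟩ := e₁.surjective y
    rw [hq', hq'] at hxy
    have h := e₂.injective hxy
    simp only [ι₀, LinearMap.lTensor_comp, LinearMap.comp_apply] at h
    exact congrArg e₁ ((LinearEquiv.lTensor Γ(S', V') L).injective
      (injective_lTensor_subtype Γ(S', V') ((LinearEquiv.lTensor Γ(S', V') ε.toLinearEquiv).injective h)))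
  · obtain ⟨z, rfl⟩ := e₂.surjective s
    obtain ⟨t, rfl⟩ := (LinearEquiv.lTensor Γ(S', V') ε.toLinearEquiv).surjective z
    obtain ⟨w, hw⟩ := mem_range_of_invariant Γ(S', V') t fun σ => by
      refine (LinearEquiv.lTensor Γ(S', V') ε.toLinearEquiv).injective (e₂.injective (Eq.trans ?_ (hs (ULift.up σ.symm))))
      clear hs
      induction t using TensorProduct.induction_on with
      | zero => simp
      | add a a' ha ha' => simp only [map_add, ha, ha']
      | tmul r a =>
        show e₂ (r ⊗ₜ ε (PiTensorProduct.reindex Γ(S, V) (fun _ : Fin d => Γ(X, U)) σ a)) =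
          ((SymProd.permHom (pullback.snd f b) d σ.symm).appLE _ _ _).hom (e₂ (r ⊗ₜ ε a))
        rw [Algebra.IsPushout.equiv_tmul, Algebra.IsPushout.equiv_tmul, map_mul]
        congr 1
        · show ((WidePullback.base (fun _ : Fin d => pullback.snd f b)).appLE V' _ hble).hom r = _
          symm
          show ((SymProd.permHom (pullback.snd f b) d σ.symm).appLE _ _ _).hom
            (((WidePullback.base (fun _ : Fin d => pullback.snd f b)).appLE V' _ hble).hom r) = _
          rw [appLE_comp_apply]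
          exact appLE_congr_app (SymProd.permHom_base _ d σ.symm) _ _ _ r
        · have h := hεσ σ.symm a
          rw [Equiv.symm_symm] at h
          rw [← h]
          show (c.appLE _ _ hcle).hom _ =
            ((SymProd.permHom (pullback.snd f b) d σ.symm).appLE _ _ _).hom ((c.appLE _ _ hcle).hom (ε a))
          rw [appLE_comp_apply, appLE_comp_apply]
          refine appLE_congr_app (WidePullback.hom_ext _ _ _ (fun i => ?_) ?_) _ _ _ (ε a)
          · rw [Category.assoc, SymProd.permHom_π, hcπ, Category.assoc, hcπ, SymProd.permHom_π_assoc]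
          · rw [Category.assoc, SymProd.permHom_base, hcb, Category.assoc, hcb, SymProd.permHom_base_assoc]
    refine ⟨e₁ ((LinearEquiv.lTensor Γ(S', V') L).symm w), ?_⟩
    rw [hq', ← hw]
    simp only [ι₀, LinearMap.lTensor_comp, LinearMap.comp_apply]
    rw [show L.toLinearMap.lTensor Γ(S', V') ((LinearEquiv.lTensor Γ(S', V') L).symm w) = w from
      (LinearEquiv.lTensor Γ(S', V') L).apply_symm_apply w]
    rfl

theorem isSymProd_baseChange [Flat f] (hAF : SymProd.IsAF f) (hq : SymProd.IsSymProd f d q g)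
    (c : SymProd.fibPow (pullback.snd f b) d ⟶ SymProd.fibPow f d)
    (hcπ : ∀ i, c ≫ WidePullback.π (fun _ => f) i = WidePullback.π (fun _ => pullback.snd f b) i ≫ pullback.fst f b)
    (hcb : c ≫ WidePullback.base (fun _ => f) = WidePullback.base (fun _ => pullback.snd f b) ≫ b)
    (q' : SymProd.fibPow (pullback.snd f b) d ⟶ pullback g b)
    (hq'₁ : q' ≫ pullback.fst g b = c ≫ q)
    (hq'₂ : q' ≫ pullback.snd g b = WidePullback.base (fun _ => pullback.snd f b)) :
    SymProd.IsSymProd (pullback.snd f b) d q' (pullback.snd g b) := by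
  haveI := hq.isQuot.affine
  haveI : IsAffineHom q' :=
    MorphismProperty.of_isPullback (isPullback_quot hq c hcπ hcb q' hq'₁ hq'₂) ‹IsAffineHom q›
  have hinv : ∀ σ, (SymProd.permActU (pullback.snd f b) d σ).hom ≫ q' = q' := fun σ => by
    rw [SymProd.permActU_hom]
    apply pullback.hom_ext
    · have hc : SymProd.permHom (pullback.snd f b) d σ.down ≫ c = c ≫ SymProd.permHom f d σ.down := by
        apply WidePullback.hom_ext
        · intro i
          rw [Category.assoc, hcπ, Category.assoc, SymProd.permHom_π, hcπ, SymProd.permHom_π_assoc]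
        · rw [Category.assoc, hcb, Category.assoc, SymProd.permHom_base, hcb, SymProd.permHom_base_assoc]
      rw [Category.assoc, hq'₁, reassoc_of% hc, ← SymProd.permActU_hom, hq.isQuot.inv]
    · rw [Category.assoc, hq'₂, SymProd.permHom_base]
  let P : (pullback g b).Opens → Prop := fun W₀ => IsAffineOpen W₀ ∧
    ∃ W'' : (pullback g b).Opens, IsAffineOpen W'' ∧ W₀ ≤ W'' ∧ Function.Injective (q'.app W'').hom ∧
      ∀ s, SGA1Quot21.IsInv (SymProd.permActU (pullback.snd f b) d) q' hinv W'' s → s ∈ Set.range (q'.app W'').hom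
  have key : ∀ W₀, P W₀ → Function.Injective (q'.app W₀).hom ∧
      ∀ s, SGA1Quot21.IsInv (SymProd.permActU (pullback.snd f b) d) q' hinv W₀ s → s ∈ Set.range (q'.app W₀).hom := by
    rintro W₀ ⟨hW₀, W'', hW'', hle, hI, hR⟩
    exact SGA1Quot21.sections_baseChange (ρ' := SymProd.permActU (pullback.snd f b) d)
      (IsPullback.of_horiz_isIso ⟨by simp⟩ : IsPullback (𝟙 _) q' q' (𝟙 _)) hinv hinv (fun σ => by simp)
      W'' hW'' hI hR W₀ hW₀ hle
  refine ⟨SGA1Quot21.isQuot_of_basis _ q' hinv P (fun O y hy => ?_) (fun W h => (key W h).1)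
    (fun W h => (key W h).2), hq'₂⟩
  obtain ⟨_, ⟨V, hV, rfl⟩, hyV, -⟩ := S.isBasis_affineOpens.exists_subset_of_mem_open
    (Set.mem_univ (g.base ((pullback.fst g b).base y))) isOpen_univ
  obtain ⟨U, hU, hUV, W', hyW', hW', e⟩ := exists_symProd_chart d hAF hq ((pullback.fst g b).base y) hV hyV
  have hyb : (pullback.snd g b).base y ∈ b ⁻¹ᵁ V := by
    show (pullback.snd g b ≫ b).base y ∈ V
    rw [← pullback.condition]
    exact hyV
  obtain ⟨_, ⟨V', hV', rfl⟩, hyV', hV'V⟩ :=
    S'.isBasis_affineOpens.exists_subset_of_mem_open hyb (b ⁻¹ᵁ V).2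
  let W'' := pullback.fst g b ⁻¹ᵁ W' ⊓ pullback.snd g b ⁻¹ᵁ V'
  haveI : IsAffine W'.toScheme := hW'
  haveI : IsAffine (Scheme.Opens.toScheme (X := S) V) := hV
  haveI : IsAffine (Scheme.Opens.toScheme (X := S') V') := hV'
  have hW'' : IsAffineOpen W'' := .of_isIso (Scheme.Hom.isPullback_resLE (IsPullback.of_hasPullback g b)
    (US := V) (UT := V') (UX := W') hV'V (le_preimage_of_chart hq e) (UY := W'') rfl).isoPullback.hom
  obtain ⟨_, ⟨W₀, hW₀, rfl⟩, hyW₀, hle⟩ := (pullback g b).isBasis_affineOpens.exists_subset_of_mem_open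
    (show y ∈ ((O ⊓ W'' : (pullback g b).Opens) : Set ↥(pullback g b)) from ⟨hy, hyW', hyV'⟩) (O ⊓ W'').2
  exact ⟨W₀, ⟨hW₀, W'', hW'', fun z hz => (hle hz).2,
    sections_symProd hq c hcπ hcb q' hq'₁ hq'₂ hinv hU hV hUV hW' e hV' hV'V rfl⟩,
    hyW₀, fun z hz => (hle hz).1⟩

end GrothLib.SymAF26
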