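import Groth.Agent.Lib.SymAF26.CurveField
import Groth.Agent.Lib.SymAF26.BaseChange
import Groth.Agent.Lib.FibreFlat.Fibrewise
import Groth.Agent.Lib.LocProp.Descend
import Mathlib.FieldTheory.IsAlgClosed.AlgebraicClosure
import Mathlib.CategoryTheory.Limits.Shapes.Pullback.Mono

/-!
The quotient map to the symmetric power of a relative smooth proper curve.
-/

universe u

open CategoryTheory CategoryTheory.Limits AlgebraicGeometry

set_option maxHeartbeats 1000000
set_option backward.isDefEq.respectTransparency false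

namespace GrothLib.SymAF26

instance : MorphismProperty.ContainsIdentities (@Smooth) := ⟨fun _ => inferInstance⟩

instance : MorphismProperty.ContainsIdentities (@LocallyOfFinitePresentation) := ⟨fun _ => inferInstance⟩

/-- The condition (AF) is stable under base change. -/
theorem isAF_baseChange {X S S' : Scheme.{u}} {f : X ⟶ S} (hAF : SymProd.IsAF f) (b : S' ⟶ S) :
    SymProd.IsAF (pullback.snd f b) := by
  classical
  intro s' T hT
  obtain ⟨V, hV, hsV⟩ : ∃ V : S.Opens, IsAffineOpen V ∧ b s' ∈ V := by
    obtain ⟨_, ⟨V, hV, rfl⟩, hsV, -⟩ := S.isBasis_affineOpens.exists_subset_of_mem_open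
      (Set.mem_univ (b s')) isOpen_univ
    exact ⟨V, hV, hsV⟩
  obtain ⟨U, hU, hUV, hTU⟩ := exists_affine_le hAF hsV (T.image (pullback.fst f b)) fun y hy => by
    obtain ⟨x, hx, rfl⟩ := Finset.mem_image.mp hy
    show f (pullback.fst f b x) = b s'
    rw [← Scheme.Hom.comp_apply, pullback.condition, Scheme.Hom.comp_apply]
    exact congrArg b (hT x hx)
  obtain ⟨V', hV', hsV', hV'V⟩ : ∃ V' : S'.Opens, IsAffineOpen V' ∧ s' ∈ V' ∧ V' ≤ b ⁻¹ᵁ V := by
    obtain ⟨_, ⟨V', hV', rfl⟩, hsV', hV'V⟩ := S'.isBasis_affineOpens.exists_subset_of_mem_open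
      (show s' ∈ b ⁻¹ᵁ V from hsV) (b ⁻¹ᵁ V).isOpen
    exact ⟨V', hV', hsV', hV'V⟩
  haveI : IsAffine U.toScheme := hU
  haveI : IsAffine V'.toScheme := hV'
  haveI : IsAffine V.toScheme := hV
  haveI : IsAffine (pullback (U.ι ≫ f) (V'.ι ≫ b)) := by
    let α := f.resLE V U hUV
    let β := b.resLE V V' hV'V
    have hα : α ≫ V.ι = U.ι ≫ f := Scheme.Hom.resLE_comp_ι ..
    have hβ : β ≫ V.ι = V'.ι ≫ b := Scheme.Hom.resLE_comp_ι ..
    let m : pullback α β ⟶ pullback (U.ι ≫ f) (V'.ι ≫ b) :=
      pullback.lift (pullback.fst _ _) (pullback.snd _ _) (by rw [← hα, ← hβ, pullback.condition_assoc])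
    let m' : pullback (U.ι ≫ f) (V'.ι ≫ b) ⟶ pullback α β :=
      pullback.lift (pullback.fst _ _) (pullback.snd _ _)
        (by rw [← cancel_mono V.ι, Category.assoc, Category.assoc, hα, hβ, pullback.condition])
    haveI : IsIso m' := ⟨m, by apply pullback.hom_ext <;> simp [m, m'],
      by apply pullback.hom_ext <;> simp [m, m']⟩
    exact IsAffine.of_isIso m'
  let j : pullback (U.ι ≫ f) (V'.ι ≫ b) ⟶ pullback f b :=
    pullback.map _ _ _ _ U.ι V'.ι (𝟙 S) (by simp) (by simp)
  refine ⟨j.opensRange, isAffineOpen_opensRange j, fun x hx => ?_⟩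
  show x ∈ Set.range j
  simp only [j, Scheme.Pullback.range_map]
  refine ⟨⟨⟨_, hTU _ (Finset.mem_image_of_mem _ hx)⟩, rfl⟩, ⟨⟨_, ?_⟩, rfl⟩⟩
  show pullback.snd f b x ∈ V'
  rw [hT x hx]
  exact hsV'

/-- Flatness descends along a flat surjection. -/
theorem flat_of_pullback_snd {A B W : Scheme.{u}} (h : A ⟶ B) (v : W ⟶ B) [Flat v] [Surjective v]
    [Flat (pullback.snd h v)] : Flat h := by
  refine (Flat.iff_flat_stalkMap h).mpr fun x => ?_
  obtain ⟨z, hz⟩ := Surjective.surj (f := pullback.fst h v) x
  subst hz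
  haveI : Flat (pullback.fst h v ≫ h) := by rw [pullback.condition]; infer_instance
  exact LocProp.flat_descends _ h z (Flat.stalkMap (pullback.fst h v) z) (Flat.stalkMap _ z)

variable {C S Y : Scheme.{u}} {f : C ⟶ S} {n : ℕ} {q : SymProd.fibPow f n ⟶ Y} {g : Y ⟶ S}

/-- The finite type structure of the quotient. -/
theorem finite_quot [IsLocallyNoetherian S] [LocallyOfFiniteType f] (hq : SymProd.IsSymProd f n q g) :
    IsFinite q ∧ LocallyOfFiniteType g := by
  haveI : LocallyOfFiniteType (q ≫ g) := by
    rw [hq.over]; exact prop_base f @LocallyOfFiniteType inferInstance n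
  exact ⟨SGA1Quot21.isFinite_of_locallyOfFiniteType hq.isQuot g,
    SGA1Quot21.locallyOfFiniteType_of_comp_quot hq.isQuot g⟩

/-- A geometric fibre of the quotient map. -/
theorem exists_geometric_fibre [IsLocallyNoetherian S] [SmoothOfRelativeDimension 1 f] (hAF : SymProd.IsAF f)
    (hq : SymProd.IsSymProd f n q g) (K : Type u) [Field K] [IsAlgClosed K]
    (b : Spec (CommRingCat.of K) ⟶ S) :
    ∃ (P : Scheme.{u}) (c : P ⟶ SymProd.fibPow f n) (q' : P ⟶ pullback g b),
      IsPullback c q' q (pullback.fst g b) ∧ Flat q' ∧ Smooth (q' ≫ pullback.snd g b) ∧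
      ∀ z, q'.finrank z = n.factorial := by
  haveI : Smooth f := SmoothOfRelativeDimension.smooth (n := 1) f
  let f' := pullback.snd f b
  haveI : SmoothOfRelativeDimension 1 f' :=
    (smoothOfRelativeDimension_isStableUnderBaseChange 1).of_isPullback (IsPullback.of_hasPullback f b) inferInstance
  let c : SymProd.fibPow f' n ⟶ SymProd.fibPow f n :=
    WidePullback.lift (WidePullback.base (fun _ : Fin n => f') ≫ b)
      (fun i => WidePullback.π (fun _ : Fin n => f') i ≫ pullback.fst f b)
      (fun i => by rw [Category.assoc, pullback.condition, WidePullback.π_arrow_assoc])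
  have hcπ : ∀ i, c ≫ WidePullback.π (fun _ => f) i = WidePullback.π (fun _ => f') i ≫ pullback.fst f b :=
    fun i => WidePullback.lift_π _ _ _ _ i
  have hcb : c ≫ WidePullback.base (fun _ => f) = WidePullback.base (fun _ => f') ≫ b :=
    WidePullback.lift_base _ _ _ _
  let q' : SymProd.fibPow f' n ⟶ pullback g b :=
    pullback.lift (c ≫ q) (WidePullback.base (fun _ => f')) (by rw [Category.assoc, hq.over, hcb])
  have h₁ : q' ≫ pullback.fst g b = c ≫ q := pullback.lift_fst _ _ _
  have h₂ : q' ≫ pullback.snd g b = WidePullback.base (fun _ => f') := pullback.lift_snd _ _ _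
  have hq' := isSymProd_baseChange hAF hq c hcπ hcb q' h₁ h₂
  obtain ⟨hqf, hgl⟩ := finite_quot hq'
  obtain ⟨hfl, hrk⟩ := flat_finrank_field (isAF_baseChange hAF b) hq'
  refine ⟨_, c, q', isPullback_quot hq c hcπ hcb q' h₁ h₂, hfl, ?_, hrk⟩
  rw [h₂]
  exact prop_base f' @Smooth inferInstance n

/-- The quotient map of a smooth curve is finite locally free of degree `n!`. -/
theorem isFinLocFree_quot [IsLocallyNoetherian S] [SmoothOfRelativeDimension 1 f] (hAF : SymProd.IsAF f)
    (hq : SymProd.IsSymProd f n q g) :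
    IsFinite q ∧ Flat q ∧ LocallyOfFinitePresentation q ∧ ∀ y, q.finrank y = n.factorial := by
  haveI : Smooth f := SmoothOfRelativeDimension.smooth (n := 1) f
  obtain ⟨_, _⟩ := finite_quot hq
  haveI : Flat (q ≫ g) := by rw [hq.over]; exact prop_base f @Flat inferInstance n
  haveI : LocallyOfFinitePresentation (q ≫ g) := by
    rw [hq.over]; exact prop_base f @LocallyOfFinitePresentation inferInstance n
  haveI hflat : Flat q := FibreFlat.flat_of_fibrewise' q g fun s => by
    let K := AlgebraicClosure (S.residueField s)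
    let v := Spec.map (CommRingCat.ofHom (algebraMap (S.residueField s) K))
    let b := v ≫ S.fromSpecResidueField s
    obtain ⟨P, c, q', hP, _, -, -⟩ := exists_geometric_fibre hAF hq K b
    let j : pullback g b ⟶ g.fiber s :=
      pullback.lift (pullback.fst g b) (pullback.snd g b ≫ v) (by rw [pullback.condition, Category.assoc])
    have hsq : IsPullback j (pullback.snd g b) (g.fiberToSpecResidueField s) v := by
      refine IsPullback.of_right ?_ (pullback.lift_snd _ _ _)
        (IsPullback.of_hasPullback g (S.fromSpecResidueField s))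
      rw [pullback.lift_fst]
      exact IsPullback.of_hasPullback g b
    haveI : Flat v := by
      rw [Flat.SpecMap_iff, CommRingCat.hom_ofHom, RingHom.flat_algebraMap_iff]; infer_instance
    haveI : Surjective v := by
      constructor; intro z; exact ⟨default, Subsingleton.elim _ _⟩
    haveI : Flat j := MorphismProperty.of_isPullback hsq.flip ‹Flat v›
    haveI : Surjective j := MorphismProperty.of_isPullback hsq.flip ‹Surjective v›
    haveI : Flat (pullback.snd (pullback.snd q (g.fiberι s)) j) := by
      rw [← pullbackLeftPullbackSndIso_hom_snd q (g.fiberι s) j]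
      have hj : j ≫ g.fiberι s = pullback.fst g b := pullback.lift_fst _ _ _
      haveI : Flat (pullback.snd q (j ≫ g.fiberι s)) := by
        rw [hj, ← hP.isoPullback_inv_snd]
        infer_instance
      infer_instance
    exact flat_of_pullback_snd _ j
  refine ⟨inferInstance, hflat, GrothLib.DiagGrp.lfp_of_comp_of_lft q g inferInstance inferInstance, fun y => ?_⟩
  let s := g y
  let K := AlgebraicClosure (S.residueField s)
  let b := Spec.map (CommRingCat.ofHom (algebraMap (S.residueField s) K)) ≫ S.fromSpecResidueField s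
  obtain ⟨P, c, q', hP, _, -, hrk⟩ := exists_geometric_fibre hAF hq K b
  obtain ⟨z, hz, -⟩ := Scheme.Pullback.exists_preimage_pullback (f := g) (g := b) y default
    (by show g y = S.fromSpecResidueField (g y) _; rw [Scheme.fromSpecResidueField_apply])
  rw [← hz, ← Scheme.Hom.finrank_of_isPullback _ _ _ _ hP z]
  exact hrk z

end GrothLib.SymAF26
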