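import Groth.Prelude.Def_SymProd
import Groth.Agent.Lib.Pushout6.FiniteSet
import Groth.Agent.Lib.SGA1Quot21.Descend

/-!
Affine charts of fibre powers and symmetric products of (AF) morphisms.
-/

universe u

open CategoryTheory CategoryTheory.Limits AlgebraicGeometry TopologicalSpace

set_option maxHeartbeats 400000

namespace GrothLib.SymAF26

variable {X S : Scheme.{u}} (f : X ⟶ S) (d : ℕ)

/-- The open subset of the fibre power lying over `V` all whose projections lie in `U`. -/
noncomputable def chart (U : X.Opens) (V : S.Opens) : (SymProd.fibPow f d).Opens :=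
  ⟨(WidePullback.base (fun _ : Fin d => f)).base ⁻¹' (V : Set S) ∩
      ⋂ i : Fin d, (WidePullback.π (fun _ : Fin d => f) i).base ⁻¹' (U : Set X),
    (V.isOpen.preimage (WidePullback.base (fun _ : Fin d => f)).continuous).inter
      (isOpen_iInter_of_finite fun i => U.isOpen.preimage (Scheme.Hom.continuous _))⟩

theorem mem_chart {U : X.Opens} {V : S.Opens} (x : ↥(SymProd.fibPow f d)) :
    x ∈ chart f d U V ↔ (WidePullback.base (fun _ : Fin d => f)).base x ∈ V ∧
      ∀ i, (WidePullback.π (fun _ : Fin d => f) i).base x ∈ U :=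
  and_congr_right' Set.mem_iInter

theorem base_perm (σ : Equiv.Perm (Fin d)) (x : ↥(SymProd.fibPow f d)) :
    (WidePullback.base (fun _ : Fin d => f)).base ((SymProd.permHom f d σ).base x) =
      (WidePullback.base (fun _ : Fin d => f)).base x := by
  show (SymProd.permHom f d σ ≫ WidePullback.base (fun _ : Fin d => f)).base x = _
  rw [SymProd.permHom_base]

theorem π_perm (σ : Equiv.Perm (Fin d)) (x : ↥(SymProd.fibPow f d)) (i : Fin d) :
    (WidePullback.π (fun _ : Fin d => f) i).base ((SymProd.permHom f d σ).base x) =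
      (WidePullback.π (fun _ : Fin d => f) (σ.symm i)).base x := by
  show (SymProd.permHom f d σ ≫ WidePullback.π (fun _ : Fin d => f) i).base x = _
  rw [SymProd.permHom_π]

theorem f_π (x : ↥(SymProd.fibPow f d)) (i : Fin d) :
    f.base ((WidePullback.π (fun _ : Fin d => f) i).base x) =
      (WidePullback.base (fun _ : Fin d => f)).base x := by
  show (WidePullback.π (fun _ : Fin d => f) i ≫ f).base x = _
  rw [WidePullback.π_arrow]

theorem perm_mem_chart_iff {U : X.Opens} {V : S.Opens} (σ : Equiv.Perm (Fin d))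
    (x : ↥(SymProd.fibPow f d)) :
    (SymProd.permHom f d σ).base x ∈ chart f d U V ↔ x ∈ chart f d U V := by
  simp only [mem_chart, base_perm, π_perm]
  exact and_congr_right' ⟨fun h i => by simpa using h (σ i), fun h i => h _⟩

theorem preimage_chart (U : X.Opens) (V : S.Opens) (σ : Equiv.Perm (Fin d)) :
    (SymProd.permHom f d σ) ⁻¹ᵁ chart f d U V = chart f d U V :=
  Opens.ext (Set.ext fun x => perm_mem_chart_iff f d σ x)

theorem chart_eq_iInter (hd : 0 < d) {U : X.Opens} {V : S.Opens} (hUV : U ≤ f ⁻¹ᵁ V) :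
    (chart f d U V : Set ↥(SymProd.fibPow f d)) =
      ⋂ i : Fin d, (WidePullback.π (fun _ : Fin d => f) i).base ⁻¹' (U : Set X) := by
  refine Set.inter_eq_right.mpr fun x hx => ?_
  have h0 : f.base ((WidePullback.π (fun _ : Fin d => f) ⟨0, hd⟩).base x) ∈ V :=
    hUV (Set.mem_iInter.mp hx ⟨0, hd⟩)
  show (WidePullback.base (fun _ : Fin d => f)).base x ∈ V
  rw [← f_π f d x ⟨0, hd⟩]
  exact h0

/-- The chart is the fibre power over `V` of `U`, hence affine if `U` and `V` are. -/
theorem isAffineOpen_chart {U : X.Opens} {V : S.Opens} (hU : IsAffineOpen U) (hV : IsAffineOpen V)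
    (hUV : U ≤ f ⁻¹ᵁ V) : IsAffineOpen (chart f d U V) := by
  let fV : U.toScheme ⟶ V.toScheme := f.resLE V U hUV
  have hfV : fV ≫ V.ι = U.ι ≫ f := f.resLE_comp_ι hUV
  let W := chart f d U V
  haveI : IsAffine U.toScheme := hU
  haveI : IsAffine V.toScheme := hV
  let P := widePullback V.toScheme (fun _ : Fin d => U.toScheme) (fun _ => fV)
  haveI : IsAffine P := by
    haveI : ∀ j, IsAffine ((WidePullbackShape.wideCospan V.toScheme (fun _ : Fin d => U.toScheme)
        (fun _ => fV)).obj j) := fun j => by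
      cases j with
      | none => exact hV
      | some i => exact hU
    exact Scheme.isAffine_of_isLimit _ (limit.isLimit (WidePullbackShape.wideCospan V.toScheme
      (fun _ : Fin d => U.toScheme) (fun _ => fV)))
  have hWV : W ≤ (WidePullback.base (fun _ : Fin d => f)) ⁻¹ᵁ V := fun x hx => ((mem_chart f d x).mp hx).1
  have hWU : ∀ i, W ≤ (WidePullback.π (fun _ : Fin d => f) i) ⁻¹ᵁ U := fun i x hx =>
    ((mem_chart f d x).mp hx).2 i
  let a : W.toScheme ⟶ P := WidePullback.lift
    ((WidePullback.base (fun _ : Fin d => f)).resLE V W hWV)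
    (fun i => (WidePullback.π (fun _ : Fin d => f) i).resLE U W (hWU i))
    (fun i => by
      rw [← cancel_mono V.ι, Category.assoc, hfV, Scheme.Hom.resLE_comp_ι_assoc,
        Scheme.Hom.resLE_comp_ι, WidePullback.π_arrow])
  let m : P ⟶ SymProd.fibPow f d := WidePullback.lift
    (WidePullback.base (fun _ : Fin d => fV) ≫ V.ι)
    (fun i => WidePullback.π (fun _ : Fin d => fV) i ≫ U.ι)
    (fun i => by rw [Category.assoc, ← hfV, ← Category.assoc, WidePullback.π_arrow])
  have hm : Set.range m.base ⊆ Set.range W.ι.base := by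
    rintro _ ⟨z, rfl⟩
    rw [Scheme.Opens.range_ι]
    refine (mem_chart f d _).mpr ⟨?_, fun i => ?_⟩
    · have e : (m ≫ WidePullback.base (fun _ : Fin d => f)).base z =
          V.ι.base ((WidePullback.base (fun _ : Fin d => fV)).base z) := by
        rw [WidePullback.lift_base]; rfl
      exact e ▸ ((WidePullback.base (fun _ : Fin d => fV)).base z).2
    · have e : (m ≫ WidePullback.π (fun _ : Fin d => f) i).base z =
          U.ι.base ((WidePullback.π (fun _ : Fin d => fV) i).base z) := by
        rw [WidePullback.lift_π]; rfl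
      exact e ▸ ((WidePullback.π (fun _ : Fin d => fV) i).base z).2
  let b : P ⟶ W.toScheme := IsOpenImmersion.lift W.ι m hm
  have hb : b ≫ W.ι = m := IsOpenImmersion.lift_fac _ _ _
  have ham : a ≫ m = W.ι := by
    apply WidePullback.hom_ext
    · intro i
      rw [Category.assoc, WidePullback.lift_π, WidePullback.lift_π_assoc, Scheme.Hom.resLE_comp_ι]
    · rw [Category.assoc, WidePullback.lift_base, WidePullback.lift_base_assoc,
        Scheme.Hom.resLE_comp_ι]
  have hab : a ≫ b = 𝟙 _ := by rw [← cancel_mono W.ι, Category.assoc, hb, ham, Category.id_comp]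
  have hba : b ≫ a = 𝟙 _ := by
    apply WidePullback.hom_ext
    · intro i
      rw [Category.assoc, WidePullback.lift_π, ← cancel_mono U.ι, Category.assoc,
        Scheme.Hom.resLE_comp_ι, reassoc_of% hb, WidePullback.lift_π, Category.id_comp]
    · rw [Category.assoc, WidePullback.lift_base, ← cancel_mono V.ι, Category.assoc,
        Scheme.Hom.resLE_comp_ι, reassoc_of% hb, WidePullback.lift_base, Category.id_comp]
  haveI : IsIso a := ⟨b, hab, hba⟩
  exact IsAffine.of_isIso a

variable {f}

/-- A finite set of points over a single point `s ∈ V` lies in an affine open contained in the preimage of `V`. -/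
theorem exists_affine_le (hAF : SymProd.IsAF f) {V : S.Opens} {s : S} (hs : s ∈ V) (T : Finset X)
    (hT : ∀ x ∈ T, f.base x = s) :
    ∃ U : X.Opens, IsAffineOpen U ∧ U ≤ f ⁻¹ᵁ V ∧ ∀ x ∈ T, x ∈ U := by
  obtain ⟨U₀, hU₀, hTU⟩ := hAF s T hT
  obtain ⟨r, hr, hE⟩ := GrothLib.Pushout6.exists_basicOpen_of_finite hU₀ (W := f ⁻¹ᵁ V)
    T.finite_toSet (fun x hx => hTU x hx) (fun x hx => by
      show f.base x ∈ V
      rw [hT x hx]; exact hs)
  exact ⟨X.basicOpen r, hU₀.basicOpen r, hr, fun x hx => hE hx⟩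

/-- A chart around any given point. -/
theorem exists_chart (hAF : SymProd.IsAF f) (x : ↥(SymProd.fibPow f d)) {V : S.Opens}
    (hx : (WidePullback.base (fun _ : Fin d => f)).base x ∈ V) :
    ∃ U : X.Opens, IsAffineOpen U ∧ U ≤ f ⁻¹ᵁ V ∧ x ∈ chart f d U V := by
  classical
  obtain ⟨U, hU, hUV, hT⟩ := exists_affine_le hAF hx
    (Finset.univ.image fun i => (WidePullback.π (fun _ : Fin d => f) i).base x)
    (fun y hy => by
      obtain ⟨i, -, rfl⟩ := Finset.mem_image.mp hy
      exact f_π f d x i)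
  exact ⟨U, hU, hUV, (mem_chart f d x).mpr ⟨hx, fun i => hT _ (Finset.mem_image.mpr ⟨i, Finset.mem_univ _, rfl⟩)⟩⟩

/-- The orbit of a point lies in an affine open subset. -/
theorem exists_affineOpen_orbit (hAF : SymProd.IsAF f) (x : ↥(SymProd.fibPow f d)) :
    ∃ U : (SymProd.fibPow f d).Opens, IsAffineOpen U ∧
      ∀ σ : Equiv.Perm (Fin d), (SymProd.permHom f d σ).base x ∈ U := by
  obtain ⟨_, ⟨V, hV, rfl⟩, hxV, -⟩ := S.isBasis_affineOpens.exists_subset_of_mem_open
    (Set.mem_univ ((WidePullback.base (fun _ : Fin d => f)).base x)) isOpen_univ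
  obtain ⟨U, hU, hUV, hxc⟩ := exists_chart d hAF x (V := V) hxV
  exact ⟨chart f d U V, isAffineOpen_chart f d hU hV hUV, fun σ => (perm_mem_chart_iff f d σ x).mpr hxc⟩

variable {Y : Scheme.{u}} {q : SymProd.fibPow f d ⟶ Y} {g : Y ⟶ S}

theorem base_eq (hq : SymProd.IsSymProd f d q g) (x : ↥(SymProd.fibPow f d)) :
    g.base (q.base x) = (WidePullback.base (fun _ : Fin d => f)).base x := by
  show (q ≫ g).base x = _
  rw [hq.over]

/-- The affine charts of a symmetric product. -/
theorem exists_symProd_chart (hAF : SymProd.IsAF f) (hq : SymProd.IsSymProd f d q g) (y : Y)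
    {V : S.Opens} (hV : IsAffineOpen V) (hy : g.base y ∈ V) :
    ∃ U : X.Opens, IsAffineOpen U ∧ U ≤ f ⁻¹ᵁ V ∧
      ∃ W' : Y.Opens, y ∈ W' ∧ IsAffineOpen W' ∧ q ⁻¹ᵁ W' = chart f d U V := by
  obtain ⟨x, rfl⟩ := SGA1Quot21.surjective hq.isQuot y
  obtain ⟨U, hU, hUV, hxc⟩ := exists_chart d hAF x (V := V) (by rw [← base_eq d hq x]; exact hy)
  obtain ⟨W', hW'⟩ := SGA1Quot21.exists_opens_preimage hq.isQuot (chart f d U V) fun σ => by
    rw [SymProd.permActU_hom]; exact preimage_chart f d U V σ.down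
  refine ⟨U, hU, hUV, W', ?_, SGA1Quot21.isAffineOpen_of_preimage hq.isQuot
    (hW'.symm ▸ isAffineOpen_chart f d hU hV hUV), hW'⟩
  show x ∈ q ⁻¹ᵁ W'
  rw [hW']; exact hxc

end GrothLib.SymAF26
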