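import Groth.Agent.Lib.SymAF26.Basic
import Mathlib.RingTheory.PiTensorProduct

/-!
The ring of a chart of the fibre power is the tensor power of the ring of the chart of `X`.
-/

universe u

open CategoryTheory CategoryTheory.Limits AlgebraicGeometry TensorProduct

set_option maxHeartbeats 400000

namespace GrothLib.SymAF26

variable {X S : Scheme.{u}} {f : X ⟶ S} {d : ℕ}

theorem appLE_congr_app {X Y : Scheme.{u}} {f g : X ⟶ Y} (h : f = g) (U : Y.Opens) (W : X.Opens) (e : W ≤ f ⁻¹ᵁ U)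
    (x : Γ(Y, U)) : (f.appLE U W e).hom x = (g.appLE U W (h ▸ e)).hom x := by
  subst h; rfl

theorem appLE_comp_apply {X Y Z : Scheme.{u}} (f : X ⟶ Y) (g : Y ⟶ Z) (U : Z.Opens) (V : Y.Opens)
    (W : X.Opens) (e₁ : V ≤ g ⁻¹ᵁ U) (e₂ : W ≤ f ⁻¹ᵁ V) (x : Γ(Z, U)) :
    (f.appLE V W e₂).hom ((g.appLE U V e₁).hom x) =
      ((f ≫ g).appLE U W (e₂.trans (f.preimage_mono e₁))).hom x :=
  DFunLike.congr_fun (congrArg CommRingCat.Hom.hom (Scheme.Hom.appLE_comp_appLE f g U V W e₁ e₂)) x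

/-- The tensor power of `Γ(U)` over `Γ(V)` is the ring of sections of the chart, compatibly with permutations. -/
theorem exists_tensor_equiv {U : X.Opens} {V : S.Opens} (hU : IsAffineOpen U) (hV : IsAffineOpen V)
    (hUV : U ≤ f ⁻¹ᵁ V) {W : (SymProd.fibPow f d).Opens} (hWc : W = chart f d U V) (hW : IsAffineOpen W)
    (hWV : W ≤ (WidePullback.base (fun _ : Fin d => f)) ⁻¹ᵁ V)
    (hWU : ∀ i, W ≤ (WidePullback.π (fun _ : Fin d => f) i) ⁻¹ᵁ U)
    (hWσ : ∀ σ, W ≤ (SymProd.permHom f d σ) ⁻¹ᵁ W) :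
    letI : Algebra Γ(S, V) Γ(X, U) := (f.appLE V U hUV).hom.toAlgebra
    letI : Algebra Γ(S, V) Γ(SymProd.fibPow f d, W) :=
      ((WidePullback.base (fun _ : Fin d => f)).appLE V W hWV).hom.toAlgebra
    ∃ e : (⨂[Γ(S, V)] _ : Fin d, Γ(X, U)) ≃ₐ[Γ(S, V)] Γ(SymProd.fibPow f d, W),
      (∀ a : Fin d → Γ(X, U), e (PiTensorProduct.tprod _ a) =
        ∏ i, ((WidePullback.π (fun _ : Fin d => f) i).appLE U W (hWU i)).hom (a i)) ∧
      ∀ (σ : Equiv.Perm (Fin d)) (t : ⨂[Γ(S, V)] _ : Fin d, Γ(X, U)),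
        ((SymProd.permHom f d σ).appLE W W (hWσ σ)).hom (e t) =
          e (PiTensorProduct.reindex Γ(S, V) (fun _ : Fin d => Γ(X, U)) σ.symm t) := by
  classical
  letI : Algebra Γ(S, V) Γ(X, U) := (f.appLE V U hUV).hom.toAlgebra
  let b := WidePullback.base (fun _ : Fin d => f)
  let π := fun i => WidePullback.π (fun _ : Fin d => f) i
  letI : Algebra Γ(S, V) Γ(SymProd.fibPow f d, W) := (b.appLE V W hWV).hom.toAlgebra
  let p : Fin d → (Γ(X, U) →ₐ[Γ(S, V)] Γ(SymProd.fibPow f d, W)) := fun i =>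
    { ((π i).appLE U W (hWU i)).hom with
      commutes' := fun r => by
        show ((π i).appLE U W (hWU i)).hom ((f.appLE V U hUV).hom r) = (b.appLE V W hWV).hom r
        rw [appLE_comp_apply]
        exact appLE_congr_app (WidePullback.π_arrow _ i) V W _ r }
  let φ : (⨂[Γ(S, V)] _ : Fin d, Γ(X, U)) →ₐ[Γ(S, V)] Γ(SymProd.fibPow f d, W) :=
    PiTensorProduct.liftAlgHom
      ((MultilinearMap.mkPiAlgebra Γ(S, V) (Fin d) Γ(SymProd.fibPow f d, W)).compLinearMap
        fun i => (p i).toLinearMap)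
      (by simp)
      (fun x y => by simp [Finset.prod_mul_distrib])
  have hφt : ∀ a : Fin d → Γ(X, U), φ (PiTensorProduct.tprod _ a) =
      ∏ i, ((π i).appLE U W (hWU i)).hom (a i) := fun a => by
    simp [φ]; rfl
  have hφsingle : ∀ (i : Fin d) (a : Γ(X, U)),
      φ (PiTensorProduct.singleAlgHom i a) = ((π i).appLE U W (hWU i)).hom a := fun i a => by
    rw [PiTensorProduct.singleAlgHom_apply, hφt, Finset.prod_eq_single i]
    · simp
    · intro j _ hj; simp [hj]
    · simp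
  let T : CommRingCat.{u} := CommRingCat.of (⨂[Γ(S, V)] _ : Fin d, Γ(X, U))
  let φc : T ⟶ Γ(SymProd.fibPow f d, W) := CommRingCat.ofHom φ.toRingHom
  let sc : Fin d → (Γ(X, U) ⟶ T) := fun i => CommRingCat.ofHom
    (PiTensorProduct.singleAlgHom (R := Γ(S, V)) (A := fun _ : Fin d => Γ(X, U)) i).toRingHom
  let ac : Γ(S, V) ⟶ T := CommRingCat.ofHom (algebraMap Γ(S, V) _)
  have hsφ : ∀ i, sc i ≫ φc = (π i).appLE U W (hWU i) := fun i => CommRingCat.hom_ext
    (RingHom.ext fun a => hφsingle i a)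
  have haφ : ac ≫ φc = b.appLE V W hWV := CommRingCat.hom_ext (RingHom.ext fun r => φ.commutes r)
  have hfs : ∀ i, f.appLE V U hUV ≫ sc i = ac := fun i => CommRingCat.hom_ext (RingHom.ext fun r =>
    (PiTensorProduct.singleAlgHom (R := Γ(S, V)) (A := fun _ : Fin d => Γ(X, U)) i).commutes r)
  let m : Spec T ⟶ SymProd.fibPow f d := WidePullback.lift (Spec.map ac ≫ hV.fromSpec)
    (fun i => Spec.map (sc i) ≫ hU.fromSpec) (fun i => by
      rw [Category.assoc, ← hV.SpecMap_appLE_fromSpec f hU hUV, ← Spec.map_comp_assoc, hfs i])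
  have hmrange : Set.range m.base ⊆ Set.range hW.fromSpec.base := by
    rintro _ ⟨z, rfl⟩
    rw [hW.range_fromSpec, hWc]
    refine (mem_chart f d _).mpr ⟨?_, fun i => ?_⟩
    · show (m ≫ WidePullback.base (fun _ : Fin d => f)).base z ∈ V
      rw [WidePullback.lift_base, ← SetLike.mem_coe, ← hV.range_fromSpec]
      exact ⟨(Spec.map ac).base z, rfl⟩
    · show (m ≫ WidePullback.π (fun _ : Fin d => f) i).base z ∈ U
      rw [WidePullback.lift_π, ← SetLike.mem_coe, ← hU.range_fromSpec]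
      exact ⟨(Spec.map (sc i)).base z, rfl⟩
  let k : Spec T ⟶ Spec Γ(SymProd.fibPow f d, W) := IsOpenImmersion.lift hW.fromSpec m hmrange
  have hk : k ≫ hW.fromSpec = m := IsOpenImmersion.lift_fac _ _ _
  obtain ⟨ψ, hψ⟩ := Spec.map_surjective k
  have hφm : Spec.map φc ≫ m = hW.fromSpec := by
    apply WidePullback.hom_ext
    · intro i
      rw [Category.assoc, WidePullback.lift_π, ← Spec.map_comp_assoc, hsφ,
        IsAffineOpen.SpecMap_appLE_fromSpec]
    · rw [Category.assoc, WidePullback.lift_base, ← Spec.map_comp_assoc, haφ,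
        IsAffineOpen.SpecMap_appLE_fromSpec]
  have hψφ : ψ ≫ φc = 𝟙 _ := Spec.map_injective (by
    rw [Spec.map_comp, Spec.map_id, hψ, ← cancel_mono hW.fromSpec, Category.assoc, hk, hφm,
      Category.id_comp])
  have hπψ : ∀ i, (π i).appLE U W (hWU i) ≫ ψ = sc i := fun i => Spec.map_injective (by
    rw [Spec.map_comp, hψ, ← cancel_mono hU.fromSpec, Category.assoc,
      IsAffineOpen.SpecMap_appLE_fromSpec (hV := hW), reassoc_of% hk, WidePullback.lift_π])
  have hbψ : b.appLE V W hWV ≫ ψ = ac := Spec.map_injective (by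
    rw [Spec.map_comp, hψ, ← cancel_mono hV.fromSpec, Category.assoc,
      IsAffineOpen.SpecMap_appLE_fromSpec (hV := hW), reassoc_of% hk, WidePullback.lift_base])
  let ψa : Γ(SymProd.fibPow f d, W) →ₐ[Γ(S, V)] (⨂[Γ(S, V)] _ : Fin d, Γ(X, U)) :=
    { ψ.hom with commutes' := fun r => DFunLike.congr_fun (congrArg CommRingCat.Hom.hom hbψ) r }
  have h1 : φ.comp ψa = AlgHom.id _ _ :=
    AlgHom.ext fun x => DFunLike.congr_fun (congrArg CommRingCat.Hom.hom hψφ) x
  have h2 : ψa.comp φ = AlgHom.id _ _ := PiTensorProduct.algHom_ext fun i => AlgHom.ext fun a => by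
    show ψ.hom (φ (PiTensorProduct.singleAlgHom i a)) = _
    rw [hφsingle]
    exact DFunLike.congr_fun (congrArg CommRingCat.Hom.hom (hπψ i)) a
  refine ⟨AlgEquiv.ofAlgHom φ ψa h1 h2, hφt, fun σ t => ?_⟩
  show ((SymProd.permHom f d σ).appLE W W (hWσ σ)).hom (φ t) = φ _
  induction t using PiTensorProduct.induction_on with
  | smul_tprod r a =>
    have hr : ((SymProd.permHom f d σ).appLE W W (hWσ σ)).hom ((b.appLE V W hWV).hom r) =
        (b.appLE V W hWV).hom r := by
      rw [appLE_comp_apply]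
      exact appLE_congr_app (SymProd.permHom_base f d σ) V W _ r
    rw [LinearEquiv.map_smul, PiTensorProduct.reindex_tprod]
    simp only [Algebra.smul_def, map_mul, φ.commutes]
    erw [hr]
    rw [hφt, hφt, map_prod,
      ← Equiv.prod_comp σ.symm
        (fun i => ((π i).appLE U W (hWU i)).hom (a (σ.symm.symm i)))]
    congr 1
    refine Finset.prod_congr rfl fun i _ => ?_
    rw [Equiv.symm_symm, Equiv.apply_symm_apply, appLE_comp_apply]
    exact appLE_congr_app (SymProd.permHom_π f d σ i) U W _ _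
  | add x y hx hy => simp only [map_add, hx, hy]

end GrothLib.SymAF26
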