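import Groth.Agent.Lib.SymAF26.PolyBasis
import Groth.Prelude.Def_SymTen
import Mathlib.RingTheory.Etale.Basic
import Mathlib.RingTheory.Unramified.Field
import Mathlib.RingTheory.Flat.Basic
import Mathlib.RingTheory.Smooth.Flat
import Mathlib.RingTheory.Invariant.Basic
import Mathlib.RingTheory.Nullstellensatz
import Mathlib.RingTheory.Jacobson.Ring
import Mathlib.RingTheory.Nakayama
import Groth.Agent.Lib.SGA1Quot21.Ring

/-!
Over an algebraically closed field, the tensor power of a curve is free of rank `n!` over the symmetric tensors.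
-/

universe u

open TensorProduct

set_option maxHeartbeats 400000

namespace GrothLib.SymAF26

/-- A finite unramified algebra over the image of an algebra is that image, if the image separates points. -/
theorem surjective_of_unramified (k : Type u) [Field k] [IsAlgClosed k] {Q R : Type u} [CommRing Q] [CommRing R]
    [Algebra k Q] [Algebra k R] [Algebra Q R] [IsScalarTower k Q R] [Module.Finite k R]
    [Algebra.FormallyUnramified Q R]
    (hsep : ∀ χ χ' : R →ₐ[k] k, (∀ x : Q, χ (algebraMap Q R x) = χ' (algebraMap Q R x)) → χ = χ') :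
    Function.Surjective (algebraMap Q R) := by
  classical
  let S := (IsScalarTower.toAlgHom k Q R).range
  letI : Algebra Q S := (IsScalarTower.toAlgHom k Q R).rangeRestrict.toRingHom.toAlgebra
  haveI : IsScalarTower Q S R := .of_algebraMap_eq fun x => rfl
  haveI : Algebra.FormallyUnramified S R := Algebra.FormallyUnramified.of_restrictScalars Q S R
  haveI : Module.Finite S R := Module.Finite.of_restrictScalars_finite k S R
  suffices h : (⊤ : Submodule S R) ≤ Submodule.span S {1} by
    intro r
    obtain ⟨⟨_, q, rfl⟩, hs⟩ := Submodule.mem_span_singleton.mp (h (Submodule.mem_top (x := r)))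
    exact ⟨q, by simpa [Algebra.smul_def] using hs⟩
  let N := R ⧸ Submodule.span S ({1} : Set R)
  have hN : ∀ m : Ideal S, m.IsMaximal → (⊤ : Submodule S N) ≤ m • ⊤ := by
    intro m hm
    rintro x -
    obtain ⟨r, rfl⟩ := Submodule.Quotient.mk_surjective _ x
    have key : ∃ c : k, r - algebraMap k R c ∈ m.map (algebraMap S R) := by
      let J := m.map (algebraMap S R)
      by_cases hJ : J = ⊤
      · exact ⟨0, by rw [show m.map (algebraMap S R) = ⊤ from hJ]; trivial⟩
      letI : Field (S ⧸ m) := Ideal.Quotient.field m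
      haveI : Module.Finite k (R ⧸ J) := Module.Finite.of_surjective (Ideal.Quotient.mkₐ k J).toLinearMap
        Ideal.Quotient.mk_surjective
      haveI : Algebra.FormallyUnramified (S ⧸ m) (R ⧸ J) := inferInstance
      haveI : IsScalarTower k (S ⧸ m) (R ⧸ J) := .of_algebraMap_eq fun x => rfl
      haveI : Module.Finite (S ⧸ m) (R ⧸ J) := Module.Finite.of_restrictScalars_finite k _ _
      haveI : IsReduced (R ⧸ J) := Algebra.FormallyUnramified.isReduced_of_field (S ⧸ m) (R ⧸ J)
      haveI : IsArtinianRing (R ⧸ J) := IsArtinianRing.of_finite k (R ⧸ J)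
      haveI : Nontrivial (R ⧸ J) := Ideal.Quotient.nontrivial_iff.mpr hJ
      have hex : ∀ z : Ideal (R ⧸ J), z.IsMaximal → ∃ χ : R →ₐ[k] k,
          ∀ x, Ideal.Quotient.mk J x ∈ z ↔ χ x = 0 := by
        intro z hz
        haveI := hz
        let e : k ≃ₐ[k] (R ⧸ J) ⧸ z := AlgEquiv.ofBijective (Algebra.ofId k _)
          ⟨(algebraMap k ((R ⧸ J) ⧸ z)).injective, IsAlgClosed.algebraMap_bijective_of_isIntegral.2⟩
        refine ⟨(e.symm.toAlgHom.comp (Ideal.Quotient.mkₐ k z)).comp (Ideal.Quotient.mkₐ k J), fun x => ?_⟩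
        rw [← Ideal.Quotient.eq_zero_iff_mem]
        exact (map_eq_zero_iff e.symm e.symm.injective).symm
      have huniq : ∀ z z' : Ideal (R ⧸ J), z.IsMaximal → z'.IsMaximal → z = z' := by
        intro z z' hz hz'
        obtain ⟨χ, hχ⟩ := hex z hz
        obtain ⟨χ', hχ'⟩ := hex z' hz'
        have hk : ∀ (χ : R →ₐ[k] k), (∀ x ∈ J, χ x = 0) → ∀ s : S, (χ (algebraMap S R s) = 0 ↔ s ∈ m) := by
          intro χ hχ s
          refine ⟨fun h => ?_, fun h => hχ _ (Ideal.mem_map_of_mem _ h)⟩
          by_contra hs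
          obtain ⟨y, i, hi, hy⟩ := hm.exists_inv hs
          have := congrArg (χ ∘ algebraMap S R) hy
          simp only [Function.comp_apply, map_add, map_mul, h, mul_zero, hχ _ (Ideal.mem_map_of_mem _ hi),
            map_one, add_zero] at this
          exact zero_ne_one this
        have h0 : ∀ {z : Ideal (R ⧸ J)} {χ : R →ₐ[k] k}, (∀ x, Ideal.Quotient.mk J x ∈ z ↔ χ x = 0) →
            ∀ x ∈ J, χ x = 0 := fun hχ x hx => (hχ x).mp (by
              rw [Ideal.Quotient.eq_zero_iff_mem.mpr hx]; exact zero_mem _)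
        have heq : χ = χ' := hsep χ χ' fun x => by
          let s : S := algebraMap Q S x
          have hs : algebraMap S R s = algebraMap Q R x := rfl
          have h1 : (algebraMap k S (χ (algebraMap Q R x)) - s) ∈ m := by
            rw [← hk χ (h0 hχ), map_sub, ← IsScalarTower.algebraMap_apply k S R, map_sub, AlgHom.commutes, hs]
            simp
          rw [← hk χ' (h0 hχ'), map_sub, ← IsScalarTower.algebraMap_apply k S R, map_sub, AlgHom.commutes,
            hs, sub_eq_zero] at h1
          simpa using h1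
        ext y
        obtain ⟨y, rfl⟩ := Ideal.Quotient.mk_surjective y
        rw [hχ, hχ', heq]
      obtain ⟨z, hz⟩ := Ideal.exists_maximal (R ⧸ J)
      have hz0 : z = ⊥ := by
        refine le_bot_iff.mp (le_trans ?_ (IsArtinianRing.jacobson_eq_radical ⊥ |>.trans
          (Ideal.radical_bot_of_isReduced)).le)
        exact le_sInf fun z' hz' => (huniq z z' hz hz'.2).le
      obtain ⟨χ, hχ⟩ := hex z hz
      refine ⟨χ r, ?_⟩
      rw [← Ideal.Quotient.eq_zero_iff_mem, ← Submodule.mem_bot (R ⧸ J), ← hz0, hχ, map_sub, AlgHom.commutes]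
      simp
    obtain ⟨c, hc⟩ := key
    have hm' : r - algebraMap k R c ∈ m • (⊤ : Submodule S R) := by
      rw [Ideal.smul_top_eq_map]; exact hc
    have : Submodule.mkQ (Submodule.span S ({1} : Set R)) (r - algebraMap k R c) =
        Submodule.Quotient.mk r := by
      rw [map_sub, Submodule.mkQ_apply, sub_eq_self, Submodule.mkQ_apply, Submodule.Quotient.mk_eq_zero]
      exact Submodule.mem_span_singleton.mpr ⟨algebraMap k S c, by
        rw [Algebra.smul_def, mul_one, ← IsScalarTower.algebraMap_apply]⟩
    rw [← this]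
    have h := Submodule.mem_map_of_mem (f := Submodule.mkQ (Submodule.span S ({1} : Set R))) hm'
    rw [Submodule.map_smul'', Submodule.map_top, Submodule.range_mkQ] at h
    exact h
  intro r _
  rw [← Submodule.Quotient.mk_eq_zero]
  by_contra hne
  let I := (Submodule.span S {(Submodule.Quotient.mk r : N)}).annihilator
  have hI : (⊤ : Submodule S N).annihilator ≠ ⊤ := fun h => hne (by
    have h1 := (Ideal.eq_top_iff_one _).mp h
    exact (one_smul S (Submodule.Quotient.mk r : N)).symm.trans ((Submodule.mem_annihilator.mp h1) (Submodule.Quotient.mk r) trivial))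
  obtain ⟨m, hm, hle⟩ := Ideal.exists_le_maximal _ hI
  obtain ⟨r', hr', hr0⟩ := Submodule.exists_sub_one_mem_and_smul_eq_zero_of_fg_of_le_smul m ⊤
    Module.Finite.fg_top (hN m hm)
  exact hm.ne_top ((Ideal.eq_top_iff_one _).mpr (by
    simpa using sub_mem (hle (Submodule.mem_annihilator.mpr fun x hx => hr0 x hx)) hr'))

section Power

variable {k : Type u} [Field k] {A : Type u} [CommRing A] [Algebra k A] (n : ℕ) (t : A)

/-- The coordinates on the tensor power. -/
noncomputable def coord : MvPolynomial (Fin n) k →ₐ[k] ⨂[k] _ : Fin n, A :=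
  MvPolynomial.aeval fun i => PiTensorProduct.singleAlgHom (R := k) (A := fun _ : Fin n => A) i t

theorem perm_singleAlgHom (σ : Equiv.Perm (Fin n)) (i : Fin n) (a : A) :
    SymTen.perm k A n σ (PiTensorProduct.singleAlgHom (R := k) (A := fun _ : Fin n => A) i a) =
      PiTensorProduct.singleAlgHom (R := k) (A := fun _ : Fin n => A) (σ i) a := by
  simp only [PiTensorProduct.singleAlgHom_apply, SymTen.perm_tprod]
  congr 1
  funext j
  simp [Pi.mulSingle_apply, Equiv.symm_apply_eq]

theorem perm_coord (σ : Equiv.Perm (Fin n)) (p : MvPolynomial (Fin n) k) :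
    SymTen.perm k A n σ (coord n t p) = coord n t (MvPolynomial.rename σ p) := by
  refine AlgHom.congr_fun (MvPolynomial.algHom_ext fun i => ?_ :
    (SymTen.perm k A n σ).comp (coord n t) = (coord n t).comp (MvPolynomial.rename σ)) p
  simp [coord, perm_singleAlgHom, -PiTensorProduct.singleAlgHom_apply]

theorem coord_mem_TS {p : MvPolynomial (Fin n) k} (hp : p.IsSymmetric) : coord n t p ∈ SymTen.TS k A n := by
  intro σ
  rw [← SymTen.perm_apply, perm_coord, hp σ]

/-- The permutation action on the tensor power. -/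
@[reducible] noncomputable def permAction : MulSemiringAction (Equiv.Perm (Fin n)) (⨂[k] _ : Fin n, A) where
  smul σ x := SymTen.perm k A n σ x
  one_smul x := by
    show SymTen.perm k A n 1 x = x
    refine AlgHom.congr_fun (PiTensorProduct.algHom_ext fun i => AlgHom.ext fun a => ?_ :
      SymTen.perm k A n 1 = AlgHom.id k _) x
    rw [AlgHom.comp_apply, perm_singleAlgHom]; rfl
  mul_smul σ τ x := by
    show SymTen.perm k A n (σ * τ) x = SymTen.perm k A n σ (SymTen.perm k A n τ x)
    refine AlgHom.congr_fun (PiTensorProduct.algHom_ext fun i => AlgHom.ext fun a => ?_ :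
      SymTen.perm k A n (σ * τ) = (SymTen.perm k A n σ).comp (SymTen.perm k A n τ)) x
    simp only [AlgHom.comp_apply, perm_singleAlgHom, Equiv.Perm.mul_apply]
  smul_zero σ := map_zero (SymTen.perm k A n σ)
  smul_add σ := map_add (SymTen.perm k A n σ)
  smul_one σ := map_one (SymTen.perm k A n σ)
  smul_mul σ := map_mul (SymTen.perm k A n σ)

theorem finiteType_pow [Algebra.FiniteType k A] : Algebra.FiniteType k (⨂[k] _ : Fin n, A) := by
  classical
  obtain ⟨s, hs⟩ := ‹Algebra.FiniteType k A›.out
  let G := Finset.univ.biUnion fun i : Fin n =>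
    s.image (PiTensorProduct.singleAlgHom (R := k) (A := fun _ : Fin n => A) i)
  refine ⟨⟨G, ?_⟩⟩
  have hi : ∀ (i : Fin n) (a : A), PiTensorProduct.singleAlgHom (R := k) (A := fun _ : Fin n => A) i a ∈
      Algebra.adjoin k (G : Set (⨂[k] _ : Fin n, A)) := by
    intro i a
    have ha : a ∈ (Algebra.adjoin k (s : Set A)) := by rw [hs]; trivial
    have h : (Algebra.adjoin k (s : Set A)).map
        (PiTensorProduct.singleAlgHom (R := k) (A := fun _ : Fin n => A) i) ≤ Algebra.adjoin k (G : Set _) := by
      rw [AlgHom.map_adjoin]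
      refine Algebra.adjoin_mono ?_
      rintro _ ⟨b, hb, rfl⟩
      exact Finset.mem_biUnion.mpr ⟨i, Finset.mem_univ _, Finset.mem_image_of_mem _ hb⟩
    exact h ⟨a, ha, rfl⟩
  refine eq_top_iff.mpr fun x hxT => ?_
  clear hxT
  induction x using PiTensorProduct.induction_on with
  | smul_tprod r f =>
    have e : PiTensorProduct.tprod k f =
        ∏ i, PiTensorProduct.singleAlgHom (R := k) (A := fun _ : Fin n => A) i (f i) := by
      simp only [PiTensorProduct.singleAlgHom_apply, ← PiTensorProduct.tprod_prod]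
      congr 1
      funext j
      simp [Finset.prod_apply, Pi.mulSingle_apply]
    rw [e]
    exact Subalgebra.smul_mem _ (prod_mem fun i _ => hi i (f i)) r
  | add x y hx hy => exact add_mem hx hy

variable [Algebra (Polynomial k) A] [IsScalarTower k (Polynomial k) A] [Algebra.FormallyEtale (Polynomial k) A]
  (ht : algebraMap (Polynomial k) A Polynomial.X = t)

include ht in
theorem formallyEtale_coord :
    letI := (coord (k := k) n t).toRingHom.toAlgebra
    Algebra.FormallyEtale (MvPolynomial (Fin n) k) (⨂[k] _ : Fin n, A) := by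
  letI := (coord (k := k) n t).toRingHom.toAlgebra
  haveI : IsScalarTower k (MvPolynomial (Fin n) k) (⨂[k] _ : Fin n, A) :=
    .of_algebraMap_eq fun r => ((coord n t).commutes r).symm
  rw [Algebra.FormallyEtale.iff_comp_bijective]
  intro C _ _ I hI
  letI : Algebra k C := ((algebraMap (MvPolynomial (Fin n) k) C).comp (algebraMap k _)).toAlgebra
  haveI : IsScalarTower k (MvPolynomial (Fin n) k) C := .of_algebraMap_eq fun _ => rfl
  let si : Fin n → (A →ₐ[k] ⨂[k] _ : Fin n, A) := fun i => PiTensorProduct.singleAlgHom (R := k) (A := fun _ : Fin n => A) i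
  have hpoly : ∀ (D : Type u) [CommRing D] [Algebra k D] (g : A →ₐ[k] D) (p : Polynomial k),
      g (algebraMap (Polynomial k) A p) = Polynomial.aeval (g t) p := by
    intro D _ _ g p
    exact AlgHom.congr_fun (Polynomial.algHom_ext (by simp [ht]) :
      g.comp (IsScalarTower.toAlgHom k (Polynomial k) A) = Polynomial.aeval (g t)) p
  have lifts : ∀ (i : Fin n) (g : A →ₐ[k] C ⧸ I),
      g t = Ideal.Quotient.mk I (algebraMap (MvPolynomial (Fin n) k) C (MvPolynomial.X i)) →
      ∃! l : A →ₐ[k] C, l t = algebraMap (MvPolynomial (Fin n) k) C (MvPolynomial.X i) ∧ (Ideal.Quotient.mkₐ k I).comp l = g := by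
    intro i g hg
    letI : Algebra (Polynomial k) C := (Polynomial.aeval (R := k) (algebraMap (MvPolynomial (Fin n) k) C (MvPolynomial.X i))).toRingHom.toAlgebra
    haveI : IsScalarTower k (Polynomial k) C := .of_algebraMap_eq fun r => by
      rw [RingHom.algebraMap_toAlgebra]; exact ((Polynomial.aeval _).commutes r).symm
    have hX : algebraMap (Polynomial k) C Polynomial.X = algebraMap (MvPolynomial (Fin n) k) C (MvPolynomial.X i) := by
      rw [RingHom.algebraMap_toAlgebra]; exact Polynomial.aeval_X _
    let g' : A →ₐ[Polynomial k] C ⧸ I := { g.toRingHom with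
      commutes' := fun p => by
        show g (algebraMap (Polynomial k) A p) = _
        rw [hpoly (C ⧸ I) g, hg]
        exact Polynomial.aeval_algHom_apply (Ideal.Quotient.mkₐ k I) _ p }
    obtain ⟨l, hl⟩ := (Algebra.FormallyEtale.iff_comp_bijective.mp ‹Algebra.FormallyEtale (Polynomial k) A› I hI).2 g'
    refine ⟨l.restrictScalars k, ⟨?_, ?_⟩, fun l₂ ⟨h₁, h₂⟩ => ?_⟩
    · show l t = _
      rw [← ht, AlgHom.commutes, hX]
    · exact AlgHom.ext fun x => AlgHom.congr_fun hl x
    · let l₂' : A →ₐ[Polynomial k] C := { l₂.toRingHom with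
        commutes' := fun p => by
          show l₂ (algebraMap (Polynomial k) A p) = _
          rw [hpoly C l₂, h₁]
          rfl }
      have : l₂' = l := (Algebra.FormallyEtale.iff_comp_bijective.mp ‹Algebra.FormallyEtale (Polynomial k) A› I hI).1
        (AlgHom.ext fun x => by
          show Ideal.Quotient.mk I (l₂ x) = Ideal.Quotient.mk I (l x)
          exact (AlgHom.congr_fun h₂ x).trans (AlgHom.congr_fun hl x).symm)
      exact AlgHom.ext fun x => AlgHom.congr_fun this x
  refine ⟨fun f₁ f₂ h => ?_, fun f => ?_⟩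
  · refine AlgHom.restrictScalars_injective k (PiTensorProduct.algHom_ext fun i => ?_)
    have hX : ∀ f : (⨂[k] _ : Fin n, A) →ₐ[MvPolynomial (Fin n) k] C, (f.restrictScalars k).comp (si i) t =
        algebraMap (MvPolynomial (Fin n) k) C (MvPolynomial.X i) := fun f => by
      rw [← f.commutes]
      simp [si, RingHom.algebraMap_toAlgebra, coord]
    exact (lifts i ((Ideal.Quotient.mkₐ k I).comp ((f₁.restrictScalars k).comp (si i))) (congrArg _ (hX f₁))).unique
      ⟨hX f₁, rfl⟩ ⟨hX f₂, AlgHom.ext fun x => (AlgHom.congr_fun h (si i x)).symm⟩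
  · have hX : ∀ i, (f.restrictScalars k).comp (si i) t = Ideal.Quotient.mk I (algebraMap (MvPolynomial (Fin n) k) C (MvPolynomial.X i)) := by
      intro i
      rw [Ideal.Quotient.mk_algebraMap, ← f.commutes]
      simp [si, RingHom.algebraMap_toAlgebra, coord]
      rfl
    choose l hl using fun i => (lifts i ((f.restrictScalars k).comp (si i)) (hX i)).exists
    let L : (⨂[k] _ : Fin n, A) →ₐ[k] C := PiTensorProduct.liftAlgHom
      ((MultilinearMap.mkPiAlgebra k (Fin n) C).compLinearMap fun i => (l i).toLinearMap)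
      (by simp) (fun x y => by simp [Finset.prod_mul_distrib])
    have hL : ∀ i a, L (si i a) = l i a := fun i a => by
      simp only [L, si, PiTensorProduct.singleAlgHom_apply]
      rw [PiTensorProduct.liftAlgHom_apply, PiTensorProduct.lift.tprod, MultilinearMap.compLinearMap_apply,
        MultilinearMap.mkPiAlgebra_apply, Finset.prod_eq_single i]
      · simp
      · intro j _ hj; simp [hj]
      · simp
    refine ⟨{ L.toRingHom with commutes' := fun p => ?_ }, ?_⟩
    · show L (coord n t p) = algebraMap _ C p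
      refine AlgHom.congr_fun (MvPolynomial.algHom_ext fun i => ?_ :
        L.comp (coord n t) = IsScalarTower.toAlgHom k (MvPolynomial (Fin n) k) C) p
      simp only [AlgHom.comp_apply, coord, MvPolynomial.aeval_X, IsScalarTower.coe_toAlgHom']
      rw [hL, (hl i).1]
    · refine AlgHom.restrictScalars_injective k (PiTensorProduct.algHom_ext fun i => AlgHom.ext fun a => ?_)
      show Ideal.Quotient.mk I (L (si i a)) = f (si i a)
      rw [hL]
      exact AlgHom.congr_fun (hl i).2 a

include ht in
/-- Near a point of the quotient, conjugate-separated by `t`, the tensor power is free of rank `n!` over the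
symmetric tensors. -/
theorem exists_basis_near [IsAlgClosed k] [Algebra.FiniteType k A]
    (χ : (⨂[k] _ : Fin n, A) →ₐ[k] k)
    (hsep : ∀ i j, χ (PiTensorProduct.singleAlgHom (R := k) (A := fun _ : Fin n => A) i t) =
        χ (PiTensorProduct.singleAlgHom (R := k) (A := fun _ : Fin n => A) j t) →
      ∀ a, χ (PiTensorProduct.singleAlgHom (R := k) (A := fun _ : Fin n => A) i a) =
        χ (PiTensorProduct.singleAlgHom (R := k) (A := fun _ : Fin n => A) j a)) :
    ∃ (v : Equiv.Perm (Fin n) → ⨂[k] _ : Fin n, A) (s : SymTen.TS k A n),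
      χ s ≠ 0 ∧ LinearIndependent (SymTen.TS k A n) v ∧
        ∀ x, s • x ∈ Submodule.span (SymTen.TS k A n) (Set.range v) := by
  classical
  haveI := finiteType_pow (k := k) (A := A) n
  letI := permAction (k := k) (A := A) n
  letI := (coord (k := k) n t).toRingHom.toAlgebra
  haveI : IsScalarTower k (MvPolynomial (Fin n) k) (⨂[k] _ : Fin n, A) :=
    .of_algebraMap_eq fun r => ((coord n t).commutes r).symm
  haveI := formallyEtale_coord n t ht
  haveI : Algebra.FiniteType (MvPolynomial (Fin n) k) (⨂[k] _ : Fin n, A) :=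
    Algebra.FiniteType.of_restrictScalars_finiteType k _ _
  haveI : Algebra.Etale (MvPolynomial (Fin n) k) (⨂[k] _ : Fin n, A) :=
    { finitePresentation := Algebra.FinitePresentation.of_finiteType.mp ‹_› }
  haveI : Algebra.IsInvariant (SymTen.TS k A n) (⨂[k] _ : Fin n, A) (Equiv.Perm (Fin n)) :=
    ⟨fun x hx => ⟨⟨x, fun σ => by rw [← SymTen.perm_apply]; exact hx σ⟩, rfl⟩⟩
  haveI : SMulCommClass (Equiv.Perm (Fin n)) (SymTen.TS k A n) (⨂[k] _ : Fin n, A) := ⟨fun σ b x => by
    show SymTen.perm k A n σ (b.1 * x) = b.1 * SymTen.perm k A n σ x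
    rw [map_mul, SymTen.perm_apply (t := b.1), b.2 σ]⟩
  haveI : Algebra.IsIntegral (SymTen.TS k A n) (⨂[k] _ : Fin n, A) :=
    Algebra.IsInvariant.isIntegral (SymTen.TS k A n) (⨂[k] _ : Fin n, A) (Equiv.Perm (Fin n))
  haveI : Algebra.FiniteType (SymTen.TS k A n) (⨂[k] _ : Fin n, A) :=
    Algebra.FiniteType.of_restrictScalars_finiteType k _ _
  haveI : Module.Finite (SymTen.TS k A n) (⨂[k] _ : Fin n, A) := Algebra.IsIntegral.finite
  let χB : SymTen.TS k A n →ₐ[k] k := χ.comp (SymTen.TS k A n).val
  let q : Ideal (SymTen.TS k A n) := RingHom.ker χB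
  let J : Ideal (⨂[k] _ : Fin n, A) := q.map (algebraMap (SymTen.TS k A n) _)
  let R := (⨂[k] _ : Fin n, A) ⧸ J
  haveI : Module.Finite k R := by
    obtain ⟨G, hG⟩ := (Module.Finite.fg_top : (⊤ : Submodule (SymTen.TS k A n) (⨂[k] _ : Fin n, A)).FG)
    refine ⟨⟨G.image (Ideal.Quotient.mk J), eq_top_iff.mpr fun x hxT => ?_⟩⟩
    clear hxT
    obtain ⟨x, rfl⟩ := Ideal.Quotient.mk_surjective x
    have hx : x ∈ Submodule.span (SymTen.TS k A n) (G : Set (⨂[k] _ : Fin n, A)) := by rw [hG]; trivial
    induction hx using Submodule.span_induction with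
    | mem y hy => exact Submodule.subset_span (Finset.mem_coe.mpr (Finset.mem_image_of_mem _ hy))
    | zero => simp
    | add a b _ _ ha hb => rw [map_add]; exact add_mem ha hb
    | smul b y _ hy =>
      have : Ideal.Quotient.mk J (b • y) = χB b • Ideal.Quotient.mk J y := by
        have hb : algebraMap (SymTen.TS k A n) _ (b - algebraMap k _ (χB b)) ∈ J :=
          Ideal.mem_map_of_mem _ (show χB (b - algebraMap k _ (χB b)) = 0 by
            rw [map_sub, AlgHom.commutes]; exact sub_self (χB b))
        have hb' := Ideal.Quotient.eq.mpr (by rwa [map_sub] at hb :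
          algebraMap (SymTen.TS k A n) (⨂[k] _ : Fin n, A) b -
            algebraMap (SymTen.TS k A n) (⨂[k] _ : Fin n, A) (algebraMap k _ (χB b)) ∈ J)
        rw [Algebra.smul_def, map_mul, hb', ← IsScalarTower.algebraMap_apply,
          Ideal.Quotient.mk_algebraMap, ← Algebra.smul_def]
      rw [this]
      exact Submodule.smul_mem _ _ hy
  have hQR : Function.Surjective (algebraMap (MvPolynomial (Fin n) k) R) := by
    refine surjective_of_unramified k fun χ₁ χ₂ h => ?_
    have orbit : ∀ χ' : R →ₐ[k] k, ∃ σ : Equiv.Perm (Fin n), ∀ x,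
        χ' (Ideal.Quotient.mk J x) = χ (SymTen.perm k A n σ x) := by
      intro χ'
      have heq : ∀ b : SymTen.TS k A n, χ b.1 = χ' (Ideal.Quotient.mk J b.1) := fun b => by
        have hb : Ideal.Quotient.mk J (algebraMap (SymTen.TS k A n) _ (b - algebraMap k _ (χB b))) = 0 :=
          Ideal.Quotient.eq_zero_iff_mem.mpr (Ideal.mem_map_of_mem _ (show χB (b - algebraMap k _ (χB b)) = 0 by
            rw [map_sub, AlgHom.commutes]; exact sub_self (χB b)))
        have h2 := congrArg χ' hb
        rw [map_sub, map_sub, map_sub, map_zero, ← IsScalarTower.algebraMap_apply, sub_eq_zero,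
          Ideal.Quotient.mk_algebraMap] at h2
        erw [AlgHom.commutes] at h2
        exact h2.symm
      let χ'' : (⨂[k] _ : Fin n, A) →ₐ[k] k := χ'.comp (Ideal.Quotient.mkₐ k J)
      haveI : (RingHom.ker χ'').IsPrime := RingHom.ker_isPrime _
      haveI : (RingHom.ker χ).IsPrime := RingHom.ker_isPrime _
      obtain ⟨σ, hσ⟩ := Algebra.IsInvariant.exists_smul_of_under_eq (SymTen.TS k A n) (⨂[k] _ : Fin n, A)
        (Equiv.Perm (Fin n)) (RingHom.ker χ'') (RingHom.ker χ) (Ideal.ext fun b => by
          show χ'' b.1 = 0 ↔ χ b.1 = 0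
          rw [heq b]; rfl)
      refine ⟨σ, fun x => ?_⟩
      have h1 : σ • (x - algebraMap k _ (χ'' x)) ∈ RingHom.ker χ := by
        rw [hσ, Ideal.smul_mem_pointwise_smul_iff]
        simp [RingHom.mem_ker]
      have h1' : χ (SymTen.perm k A n σ (x - algebraMap k _ (χ'' x))) = 0 := h1
      rw [map_sub, map_sub, AlgHom.commutes, AlgHom.commutes, sub_eq_zero] at h1'
      exact h1'.symm
    obtain ⟨σ, hσ⟩ := orbit χ₁
    obtain ⟨τ, hτ⟩ := orbit χ₂
    have hv : ∀ i, ∀ a, χ (PiTensorProduct.singleAlgHom (R := k) (A := fun _ : Fin n => A) (σ i) a) =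
        χ (PiTensorProduct.singleAlgHom (R := k) (A := fun _ : Fin n => A) (τ i) a) := fun i => by
      refine hsep (σ i) (τ i) ?_
      have h' := h (MvPolynomial.X i)
      rw [show algebraMap (MvPolynomial (Fin n) k) R (MvPolynomial.X i) =
        Ideal.Quotient.mk J (coord n t (MvPolynomial.X i)) from rfl, hσ, hτ] at h'
      simpa [coord, perm_singleAlgHom, -PiTensorProduct.singleAlgHom_apply] using h'
    refine AlgHom.ext fun x => ?_
    obtain ⟨x, rfl⟩ := Ideal.Quotient.mk_surjective x
    rw [hσ, hτ]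
    refine AlgHom.congr_fun (PiTensorProduct.algHom_ext fun i => AlgHom.ext fun a => ?_ :
      χ.comp (SymTen.perm k A n σ) = χ.comp (SymTen.perm k A n τ)) x
    simpa [perm_singleAlgHom, -PiTensorProduct.singleAlgHom_apply] using hv i a
  obtain ⟨v, hspan, hdet⟩ := exists_symm_basis k n
  let w : Equiv.Perm (Fin n) → ⨂[k] _ : Fin n, A := fun j => coord n t (v j)
  let N := Submodule.span (SymTen.TS k A n) (Set.range w)
  have hcov : (⊤ : Submodule (SymTen.TS k A n) ((⨂[k] _ : Fin n, A) ⧸ N)) ≤ q • ⊤ := by
    rintro x -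
    obtain ⟨x, rfl⟩ := Submodule.Quotient.mk_surjective _ x
    obtain ⟨p, hp⟩ := hQR (Ideal.Quotient.mk J x)
    have hpN : coord n t p ∈ N := by
      obtain ⟨r, hr, rfl⟩ := hspan p
      rw [map_sum]
      refine Submodule.sum_mem _ fun j _ => ?_
      rw [map_mul]
      exact Submodule.smul_mem _ (⟨_, coord_mem_TS n t (hr j)⟩ : SymTen.TS k A n) (Submodule.subset_span ⟨j, rfl⟩)
    have hd : x - coord n t p ∈ q • (⊤ : Submodule (SymTen.TS k A n) (⨂[k] _ : Fin n, A)) := by
      rw [Ideal.smul_top_eq_map]
      exact Ideal.Quotient.eq.mp hp.symm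
    have h := Submodule.mem_map_of_mem (f := N.mkQ) hd
    rw [Submodule.map_smul'', Submodule.map_top, Submodule.range_mkQ, map_sub, Submodule.mkQ_apply,
      Submodule.mkQ_apply, (Submodule.Quotient.mk_eq_zero N).mpr hpN, sub_zero] at h
    exact h
  obtain ⟨s, hs, hs0⟩ := Submodule.exists_sub_one_mem_and_smul_eq_zero_of_fg_of_le_smul q ⊤
    Module.Finite.fg_top hcov
  refine ⟨w, s, ?_, ?_, fun x => ?_⟩
  · intro h0
    have h1 : χB (s - 1) = 0 := hs
    rw [map_sub, map_one, show χB s = 0 from h0] at h1
    simp at h1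
  · rw [Fintype.linearIndependent_iff]
    intro c hc j
    let M : Matrix (Equiv.Perm (Fin n)) (Equiv.Perm (Fin n)) (⨂[k] _ : Fin n, A) :=
      (Matrix.of fun σ j : Equiv.Perm (Fin n) => MvPolynomial.rename σ (v j)).map (coord n t)
    have hM : M.mulVec (fun j => (c j).1) = 0 := funext fun σ => by
      have h := congrArg (SymTen.perm k A n σ) hc
      rw [map_sum, map_zero] at h
      refine Eq.trans ?_ h
      refine Finset.sum_congr rfl fun j _ => ?_
      show coord n t _ * (c j).1 = SymTen.perm k A n σ ((c j).1 * w j)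
      rw [map_mul, SymTen.perm_apply (t := (c j).1), (c j).2 σ, perm_coord, mul_comm]
      rfl
    have h2 := congrArg (M.adjugate.mulVec) hM
    rw [Matrix.mulVec_mulVec, Matrix.adjugate_mul, Matrix.smul_mulVec, Matrix.one_mulVec,
      Matrix.mulVec_zero] at h2
    have h3 := congrFun h2 j
    rw [show M.det = coord n t _ from ((coord n t).map_det _).symm] at h3
    have hreg : IsSMulRegular (⨂[k] _ : Fin n, A) (algebraMap (MvPolynomial (Fin n) k) (⨂[k] _ : Fin n, A)
        (Matrix.of fun σ j : Equiv.Perm (Fin n) => MvPolynomial.rename σ (v j)).det) :=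
      IsSMulRegular.of_flat fun a b hab => mul_left_cancel₀ hdet hab
    exact Subtype.ext (hreg (h3.trans (smul_zero _).symm))
  · rw [← Submodule.Quotient.mk_eq_zero, Submodule.Quotient.mk_smul]
    exact hs0 _ trivial

end Power

end GrothLib.SymAF26
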