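import Groth.Agent.Lib.EtaleSection26.Basic
import Mathlib.RingTheory.RingHom.StandardSmooth
import Mathlib.RingTheory.RingHom.Locally
import Mathlib.RingTheory.Kaehler.Polynomial
import Mathlib.RingTheory.Etale.Locus
import Mathlib.RingTheory.Nullstellensatz
import Mathlib.FieldTheory.IsAlgClosed.Basic
import Mathlib.RingTheory.Ideal.Quotient.Operations

/-!
Functions separating finitely many points of a smooth affine curve, étale near these points.
-/

universe u

open TensorProduct

set_option maxHeartbeats 400000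

namespace GrothLib.SymAF26

variable {k : Type u} [Field k]

section Etale

variable {B : Type u} [CommRing B] [Algebra k B] [Algebra (MvPolynomial (Fin 1) k) B]
  [IsScalarTower k (MvPolynomial (Fin 1) k) B] [Algebra.FormallyEtale (MvPolynomial (Fin 1) k) B]

/-- The conormal space of a point of a one-dimensional étale chart is a line. -/
theorem exists_derivation_of_chart (χ : B →ₐ[k] k) :
    ∃ δ : B →ₗ[k] k, (∀ a b, δ (a * b) = χ a * δ b + χ b * δ a) ∧ (∃ b, δ b ≠ 0) ∧
      ∀ y, χ y = 0 → δ y = 0 → y ∈ RingHom.ker χ ^ 2 := by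
  classical
  let e : Ω[B⁄k] ≃ₗ[B] B :=
    (KaehlerDifferential.tensorKaehlerEquivOfFormallyEtale k (MvPolynomial (Fin 1) k) B).symm ≪≫ₗ
      ((KaehlerDifferential.mvPolynomialBasis k (Fin 1)).baseChange B).equivFun ≪≫ₗ
      LinearEquiv.funUnique (Fin 1) B B
  let x : B := algebraMap (MvPolynomial (Fin 1) k) B (MvPolynomial.X 0)
  have hx : e (KaehlerDifferential.D k B x) = 1 := by
    have hbas : (1 : B) ⊗ₜ[MvPolynomial (Fin 1) k]
        KaehlerDifferential.D k (MvPolynomial (Fin 1) k) (MvPolynomial.X 0) =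
        (KaehlerDifferential.mvPolynomialBasis k (Fin 1)).baseChange B 0 := by
      rw [Module.Basis.baseChange_apply, KaehlerDifferential.mvPolynomialBasis_apply]
    simp only [e, x, LinearEquiv.trans_apply,
      KaehlerDifferential.tensorKaehlerEquivOfFormallyEtale_symm_D_algebraMap, hbas]
    simp
  have hω : ∀ ω, ω = e ω • KaehlerDifferential.D k B x := fun ω => e.injective (by
    rw [map_smul, hx, smul_eq_mul, mul_one])
  let δ : B →ₗ[k] k := χ.toLinearMap ∘ₗ (e.toLinearMap.restrictScalars k) ∘ₗ (KaehlerDifferential.D k B).toLinearMap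
  have hδ : ∀ b, δ b = χ (e (KaehlerDifferential.D k B b)) := fun b => rfl
  refine ⟨δ, fun a b => ?_, ⟨x, by rw [hδ, hx, map_one]; exact one_ne_zero⟩, fun y hy hy0 => ?_⟩
  · simp [hδ, smul_eq_mul]
  · let m := RingHom.ker χ
    let pr : B →ₗ[k] m :=
      LinearMap.codRestrict (m.restrictScalars k) (LinearMap.id - (Algebra.linearMap k B).comp χ.toLinearMap)
        fun b => by
          show χ (b - algebraMap k B (χ b)) = 0
          rw [map_sub, AlgHom.commutes]; exact sub_self (χ b)
    let d : Derivation k B m.Cotangent := Derivation.mk' ((m.toCotangent.restrictScalars k).comp pr)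
      fun a b => by
        show m.toCotangent (pr (a * b)) = a • m.toCotangent (pr b) + b • m.toCotangent (pr a)
        rw [← LinearMap.map_smul m.toCotangent a (pr b), ← LinearMap.map_smul m.toCotangent b (pr a), ← map_add,
          Ideal.toCotangent_eq]
        have h : ((pr (a * b) : B) - ((a • pr b + b • pr a : m) : B)) = -((pr a : B) * pr b) := by
          show a * b - algebraMap k B (χ (a * b)) -
            (a * (b - algebraMap k B (χ b)) + b * (a - algebraMap k B (χ a))) =
              -((a - algebraMap k B (χ a)) * (b - algebraMap k B (χ b)))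
          rw [map_mul, map_mul]; ring
        rw [h, pow_two]
        exact neg_mem (Ideal.mul_mem_mul (pr a).2 (pr b).2)
    have h1 : d y = e (KaehlerDifferential.D k B y) • d x := by
      rw [← d.liftKaehlerDifferential_comp_D y, ← d.liftKaehlerDifferential_comp_D x]
      conv_lhs => rw [hω (KaehlerDifferential.D k B y)]
      rw [map_smul]
    have h2 : e (KaehlerDifferential.D k B y) ∈ m := by rw [RingHom.mem_ker]; exact hy0
    have h3 : d y = 0 := by
      rw [h1, show d x = m.toCotangent (pr x) from rfl, ← map_smul, Ideal.toCotangent_eq_zero]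
      rw [pow_two]
      exact Ideal.mul_mem_mul h2 (pr x).2
    have h4 := (Ideal.toCotangent_eq_zero m (pr y)).mp h3
    have h5 : (pr y : B) = y := by
      show y - algebraMap k B (χ y) = y
      rw [hy, map_zero, sub_zero]
    rwa [h5] at h4

end Etale

variable {A : Type u} [CommRing A] [Algebra k A]

/-- The conormal space of a point of a smooth curve is a line. -/
theorem exists_derivation
    (hsm : RingHom.Locally (RingHom.IsStandardSmoothOfRelativeDimension 1) (algebraMap k A))
    (χ : A →ₐ[k] k) :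
    ∃ δ : A →ₗ[k] k, (∀ a b, δ (a * b) = χ a * δ b + χ b * δ a) ∧ (∃ b, δ b ≠ 0) ∧
      ∀ y, χ y = 0 → δ y = 0 → y ∈ RingHom.ker χ ^ 2 := by
  classical
  obtain ⟨s, hs, hP⟩ := hsm
  obtain ⟨b, hb, hχb⟩ : ∃ b ∈ s, χ b ≠ 0 := by
    by_contra h
    push Not at h
    have h1 : (Ideal.span s : Ideal A) ≤ RingHom.ker χ := Ideal.span_le.mpr fun x hx => h x hx
    rw [hs] at h1
    exact one_ne_zero ((map_one χ).symm.trans (h1 (Submodule.mem_top (x := (1 : A)))))
  obtain ⟨g, hgC, hg⟩ := (hP b hb).exists_etale_mvPolynomial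
  let B := Localization.Away b
  letI : Algebra (MvPolynomial (Fin 1) k) B := g.toAlgebra
  haveI : IsScalarTower k (MvPolynomial (Fin 1) k) B := .of_algebraMap_eq fun r => by
    rw [IsScalarTower.algebraMap_apply k A B]
    exact (RingHom.congr_fun hgC r).symm
  haveI : Algebra.Etale (MvPolynomial (Fin 1) k) B := hg
  have hub : IsUnit (χ.toRingHom b) := isUnit_iff_ne_zero.mpr hχb
  let χB : B →ₐ[k] k :=
    { IsLocalization.Away.lift b (g := χ.toRingHom) hub with
      commutes' := fun r => by
        show IsLocalization.Away.lift b hub (algebraMap k B r) = r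
        rw [IsScalarTower.algebraMap_apply k A B, IsLocalization.Away.lift_eq]
        exact χ.commutes r }
  have hχB : ∀ a, χB (algebraMap A B a) = χ a := fun a => IsLocalization.Away.lift_eq b hub a
  obtain ⟨δ, hmul, ⟨x, hx⟩, hker⟩ := exists_derivation_of_chart χB
  let δA : A →ₗ[k] k := δ.comp (IsScalarTower.toAlgHom k A B).toLinearMap
  have hδA : ∀ a, δA a = δ (algebraMap A B a) := fun a => rfl
  refine ⟨δA, fun a c => by simp [hδA, hmul, hχB], ?_, fun y hy hy0 => ?_⟩
  · by_contra h
    push Not at h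
    obtain ⟨⟨a, ⟨_, N, rfl⟩⟩, ha⟩ := IsLocalization.surj (Submonoid.powers b) x
    have := congrArg δ ha
    rw [hmul, ← hδA, h, ← hδA, h, hχB, mul_zero, zero_add, map_pow] at this
    exact mul_ne_zero (pow_ne_zero N hχb) hx this
  · let m := RingHom.ker χ
    haveI hm : m.IsMaximal := RingHom.ker_isMaximal_of_surjective χ fun c => ⟨algebraMap k A c, χ.commutes c⟩
    have hmB : RingHom.ker χB ≤ m.map (algebraMap A B) := fun z hz => by
      obtain ⟨⟨a, c⟩, hac⟩ := IsLocalization.surj (Submonoid.powers b) z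
      have ha : a ∈ m := by
        show χ a = 0
        rw [← hχB, ← hac, map_mul, show χB z = 0 from hz, zero_mul]
      exact (IsLocalization.mem_map_algebraMap_iff (Submonoid.powers b) B).mpr ⟨⟨⟨a, ha⟩, c⟩, hac⟩
    have h1 : algebraMap A B y ∈ (m ^ 2).map (algebraMap A B) := by
      rw [Ideal.map_pow]
      exact Ideal.pow_right_mono hmB 2 (hker _ ((hχB y).trans hy) hy0)
    obtain ⟨⟨⟨a, ha⟩, c⟩, hac⟩ := (IsLocalization.mem_map_algebraMap_iff (Submonoid.powers b) B).mp h1
    obtain ⟨d, hd⟩ := (IsLocalization.eq_iff_exists (Submonoid.powers b) B).mp ((map_mul _ _ _).trans hac)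
    obtain ⟨N, hN⟩ := mul_mem d.2 c.2
    have h2 : b ^ N * y ∈ m ^ 2 := by
      rw [show b ^ N = (d : A) * c from hN, mul_assoc, mul_comm (c : A) y, hd]
      exact Ideal.mul_mem_left _ _ ha
    have hu : b ^ N - algebraMap k A (χ b ^ N) ∈ m := by
      show χ _ = 0
      rw [map_sub, AlgHom.commutes, map_pow]
      simp
    have h3 : algebraMap k A (χ b ^ N) * y ∈ m ^ 2 := by
      have h4 : (b ^ N - algebraMap k A (χ b ^ N)) * y ∈ m ^ 2 := by
        rw [pow_two]; exact Ideal.mul_mem_mul hu hy
      have := sub_mem h2 h4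
      rwa [sub_mul, sub_sub_cancel] at this
    exact (Ideal.unit_mul_mem_iff_mem (m ^ 2) ((isUnit_iff_ne_zero.mpr (pow_ne_zero N hχb)).map (algebraMap k A))).mp h3

/-- A function separating finitely many points of a smooth curve and étale near them. -/
theorem exists_etale_separating [IsAlgClosed k] [Algebra.Smooth k A]
    (hsm : RingHom.Locally (RingHom.IsStandardSmoothOfRelativeDimension 1) (algebraMap k A))
    {ι : Type} [Finite ι] (χ : ι → A →ₐ[k] k) :
    ∃ a t : A, (∀ i, χ i a ≠ 0) ∧ (∀ i j, χ i t = χ j t → χ i = χ j) ∧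
      letI := (Polynomial.aeval (R := k) t).toRingHom.toAlgebra
      Algebra.FormallyEtale (Polynomial k) (Localization.Away a) := by
  classical
  letI := Fintype.ofFinite (Set.range χ)
  let I : Set.range χ → Ideal A := fun j => RingHom.ker j.1
  have hmax : ∀ j, (I j).IsMaximal := fun j =>
    RingHom.ker_isMaximal_of_surjective j.1 fun c => ⟨algebraMap k A c, j.1.commutes c⟩
  have hcop : Pairwise (Function.onFun IsCoprime fun j => I j ^ 2) := fun i j hij => by
    refine IsCoprime.pow (Ideal.isCoprime_iff_sup_eq.mpr ((hmax i).coprime_of_ne (hmax j) fun h => hij ?_))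
    refine Subtype.ext (AlgHom.ext fun x => ?_)
    have hx : x - algebraMap k A (i.1 x) ∈ I i := by
      show i.1 _ = 0
      rw [map_sub, AlgHom.commutes]; exact sub_self (i.1 x)
    rw [h] at hx
    have hx' : j.1 (x - algebraMap k A (i.1 x)) = 0 := hx
    rw [map_sub, AlgHom.commutes, sub_eq_zero] at hx'
    exact hx'.symm
  choose δ hmul hne hker using fun j : Set.range χ => exists_derivation hsm j.1
  choose π hπ using hne
  obtain ⟨c, hc⟩ : ∃ c : Set.range χ → k, Function.Injective c :=
    ⟨fun j => Infinite.natEmbedding k (Fintype.equivFin (Set.range χ) j).1,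
      fun i j h => (Fintype.equivFin _).injective (Fin.val_injective ((Infinite.natEmbedding k).injective h))⟩
  obtain ⟨t, ht⟩ := Ideal.exists_forall_sub_mem_ideal hcop
    fun j => algebraMap k A (c j) + (π j - algebraMap k A (j.1 (π j)))
  have h1 : ∀ j, δ j 1 = 0 := fun j => by
    simpa using hmul j 1 1
  have hconst : ∀ j r, δ j (algebraMap k A r) = 0 := fun j r => by
    rw [Algebra.algebraMap_eq_smul_one, map_smul, h1, smul_zero]
  have hsq : ∀ j, ∀ y ∈ I j ^ 2, j.1 y = 0 ∧ δ j y = 0 := fun j y hy => by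
    rw [pow_two] at hy
    refine Submodule.mul_induction_on hy (fun a ha b hb => ?_) fun a b ha hb => ?_
    · rw [hmul, show j.1 a = 0 from ha, show j.1 b = 0 from hb, map_mul, show j.1 a = 0 from ha]
      simp
    · simp [ha.1, ha.2, hb.1, hb.2]
  have htc : ∀ j : Set.range χ, j.1 t = c j := fun j => by
    have h := (hsq j _ (ht j)).1
    simpa [sub_eq_zero] using h
  have htd : ∀ j, δ j t ≠ 0 := fun j => by
    have h := (hsq j _ (ht j)).2
    simp only [map_sub, map_add, hconst, sub_zero, zero_add, sub_eq_zero] at h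
    rw [h]; exact hπ j
  letI : Algebra (Polynomial k) A := (Polynomial.aeval (R := k) t).toRingHom.toAlgebra
  haveI : IsScalarTower k (Polynomial k) A := .of_algebraMap_eq fun r => ((Polynomial.aeval t).commutes r).symm
  haveI : Algebra.FiniteType (Polynomial k) A := Algebra.FiniteType.of_restrictScalars_finiteType k _ _
  haveI : Algebra.FinitePresentation (Polynomial k) A := Algebra.FinitePresentation.of_finiteType.mp ‹_›
  have het : ∀ j : Set.range χ, haveI := (hmax j).isPrime; Algebra.IsEtaleAt (Polynomial k) (I j) := fun j => by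
    haveI := (hmax j).isPrime
    let σ₂ : Polynomial k →ₐ[k] k := j.1.comp (IsScalarTower.toAlgHom k (Polynomial k) A)
    have hσ₂ : ∀ p, σ₂ p = Polynomial.eval (c j) p := fun p => by
      show j.1 (Polynomial.aeval t p) = _
      rw [← Polynomial.aeval_algHom_apply, htc j]
      exact Polynomial.coe_aeval_eq_eval (c j) ▸ rfl
    have hgen : ∀ p, σ₂ p = 0 → ∃ h, p = (Polynomial.X - Polynomial.C (c j)) * h := fun p hp =>
      Polynomial.dvd_iff_isRoot.mpr ((hσ₂ p).symm.trans hp)
    have hδp : ∀ h, δ j (Polynomial.aeval t ((Polynomial.X - Polynomial.C (c j)) * h)) =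
        δ j t * σ₂ h := fun h => by
      rw [map_mul, hmul]
      simp only [map_sub, Polynomial.aeval_X, Polynomial.aeval_C, AlgHom.commutes, htc, hconst]
      simp [σ₂, RingHom.algebraMap_toAlgebra, mul_comm]
    refine EtaleSection26.isEtaleAt k A (Polynomial k) j.1 σ₂ rfl (fun _ h => h) ⟨?_, ?_⟩ (I j) le_rfl
    · refine (injective_iff_map_eq_zero _).mpr fun z hz => ?_
      obtain ⟨⟨p, hp⟩, rfl⟩ := Ideal.toCotangent_surjective _ z
      rw [Ideal.toCotangent_eq_zero]
      obtain ⟨h, rfl⟩ := hgen p hp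
      have hz' := (Ideal.toCotangent_eq_zero _ _).mp hz
      have hzero : σ₂ h = 0 := by
        have : δ j (Polynomial.aeval t ((Polynomial.X - Polynomial.C (c j)) * h)) = 0 := (hsq j _ hz').2
        rw [hδp] at this
        exact (mul_eq_zero.mp this).resolve_left (htd j)
      have hX : Polynomial.X - Polynomial.C (c j) ∈ RingHom.ker σ₂ := by
        rw [RingHom.mem_ker, hσ₂]; simp
      rw [pow_two]
      exact Ideal.mul_mem_mul hX hzero
    · intro z
      obtain ⟨⟨y, hy⟩, rfl⟩ := Ideal.toCotangent_surjective _ z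
      let p := Polynomial.C (δ j y / δ j t) * (Polynomial.X - Polynomial.C (c j))
      refine ⟨(RingHom.ker σ₂).toCotangent ⟨p, by rw [RingHom.mem_ker, hσ₂]; simp [p]⟩, ?_⟩
      refine ((Ideal.toCotangent_eq _).mpr ?_)
      show Polynomial.aeval t p - y ∈ _
      refine hker j _ ?_ ?_
      · simp [p, htc, show j.1 y = 0 from hy]
      · have : Polynomial.aeval t p = (δ j y / δ j t) • (t - algebraMap k A (c j)) := by
          simp [p, Algebra.smul_def]
        rw [map_sub, this, map_smul, map_sub, hconst, sub_zero, smul_eq_mul, div_mul_cancel₀ _ (htd j), sub_self]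
  obtain ⟨J, hJ⟩ := (PrimeSpectrum.isClosed_iff_zeroLocus_ideal _).mp
    (Algebra.isOpen_etaleLocus (R := Polynomial k) (A := A)).isClosed_compl
  have hnot : ∀ j, ¬ J ≤ I j := fun j hle => by
    have h : (⟨I j, (hmax j).isPrime⟩ : PrimeSpectrum A) ∈ (Algebra.etaleLocus (Polynomial k) A)ᶜ := by
      rw [hJ]; exact hle
    exact h (het j)
  obtain ⟨a, haJ, ha⟩ : ∃ a ∈ J, ∀ j, a ∉ I j := by
    by_contra h
    push Not at h
    have hsub : (J : Set A) ⊆ ⋃ j ∈ (Finset.univ : Finset (Set.range χ)), (I j : Set A) := fun a ha => by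
      obtain ⟨j, hj⟩ := h a ha
      exact Set.mem_biUnion (Finset.mem_univ j) hj
    by_cases hne : Nonempty (Set.range χ)
    · obtain ⟨j, -, hle⟩ := (Ideal.subset_union_prime hne.some hne.some fun j _ _ _ => (hmax j).isPrime).mp hsub
      exact hnot j hle
    · obtain ⟨j, -⟩ := h 0 J.zero_mem
      exact hne ⟨j⟩
  refine ⟨a, t, fun i => ha ⟨χ i, i, rfl⟩, fun i j h => ?_, ?_⟩
  · have := hc (((htc ⟨χ i, i, rfl⟩).symm.trans h).trans (htc ⟨χ j, j, rfl⟩))
    exact congrArg Subtype.val this
  · have hsub : ↑(PrimeSpectrum.basicOpen a) ⊆ Algebra.etaleLocus (Polynomial k) A := fun p hp => by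
      by_contra hne
      have : p ∈ PrimeSpectrum.zeroLocus (J : Set A) := by rw [← hJ]; exact hne
      exact hp (this haJ)
    haveI := Algebra.basicOpen_subset_etaleLocus_iff_etale.mp hsub
    infer_instance

end GrothLib.SymAF26
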