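import Groth.Agent.Lib.SymAF26.ChartRing
import Groth.Agent.Lib.PolLaw.SymFlat
import Mathlib.AlgebraicGeometry.Morphisms.Flat

/-!
Symmetric products of flat (AF) morphisms are flat.
-/

universe u

open CategoryTheory CategoryTheory.Limits AlgebraicGeometry TensorProduct

set_option maxHeartbeats 400000

namespace GrothLib.SymAF26

variable {X S Y : Scheme.{u}} {f : X ⟶ S} {d : ℕ} {q : SymProd.fibPow f d ⟶ Y} {g : Y ⟶ S}

/-- Sections of the quotient are the invariant sections, in `appLE` form. -/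
theorem quot_sections (hq : SymProd.IsSymProd f d q g) (W' : Y.Opens) {W : (SymProd.fibPow f d).Opens}
    (e : q ⁻¹ᵁ W' = W) (hWσ : ∀ σ, W ≤ (SymProd.permHom f d σ) ⁻¹ᵁ W) :
    Function.Injective (q.appLE W' W e.ge).hom ∧ ∀ s : Γ(SymProd.fibPow f d, W),
      s ∈ Set.range (q.appLE W' W e.ge).hom ↔
        ∀ σ : Equiv.Perm (Fin d), ((SymProd.permHom f d σ).appLE W W (hWσ σ)).hom s = s := by
  subst e
  have ha : q.appLE W' (q ⁻¹ᵁ W') le_rfl = q.app W' := (Scheme.Hom.app_eq_appLE _).symm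
  refine ⟨ha ▸ hq.isQuot.injective W', fun s => ?_⟩
  rw [ha, hq.isQuot.range_iff]
  exact ⟨fun h σ => (appLE_congr_app (SymProd.permActU_hom f d (ULift.up σ)) _ _ _ s) ▸ h (ULift.up σ),
    fun h σ => (appLE_congr_app (SymProd.permActU_hom f d σ) _ _ _ s).trans (h σ.down)⟩

/-- The ring of a chart of the symmetric product is the module of symmetric tensors. -/
theorem exists_symTensor_equiv (hq : SymProd.IsSymProd f d q g) {U : X.Opens} {V : S.Opens}
    (hU : IsAffineOpen U) (hV : IsAffineOpen V) (hUV : U ≤ f ⁻¹ᵁ V) {W' : Y.Opens}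
    {W : (SymProd.fibPow f d).Opens} (hWc : W = chart f d U V) (e : q ⁻¹ᵁ W' = W)
    (hWV : W ≤ (WidePullback.base (fun _ : Fin d => f)) ⁻¹ᵁ V)
    (hWσ : ∀ σ, W ≤ (SymProd.permHom f d σ) ⁻¹ᵁ W) (hW'V : W' ≤ g ⁻¹ᵁ V) :
    letI : Algebra Γ(S, V) Γ(X, U) := (f.appLE V U hUV).hom.toAlgebra
    letI : Algebra Γ(S, V) Γ(SymProd.fibPow f d, W) :=
      ((WidePullback.base (fun _ : Fin d => f)).appLE V W hWV).hom.toAlgebra
    letI : Algebra Γ(S, V) Γ(Y, W') := (g.appLE V W' hW'V).hom.toAlgebra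
    ∃ (ε : (⨂[Γ(S, V)] _ : Fin d, Γ(X, U)) ≃ₐ[Γ(S, V)] Γ(SymProd.fibPow f d, W))
      (L : Γ(Y, W') ≃ₗ[Γ(S, V)] PolLaw.symTensor Γ(S, V) Γ(X, U) d),
      (∀ z, ε (L z : ⨂[Γ(S, V)] _ : Fin d, Γ(X, U)) = (q.appLE W' W e.ge).hom z) ∧
      ∀ (σ : Equiv.Perm (Fin d)) (t : ⨂[Γ(S, V)] _ : Fin d, Γ(X, U)),
        ((SymProd.permHom f d σ).appLE W W (hWσ σ)).hom (ε t) =
          ε (PiTensorProduct.reindex Γ(S, V) (fun _ : Fin d => Γ(X, U)) σ.symm t) := by
  letI : Algebra Γ(S, V) Γ(X, U) := (f.appLE V U hUV).hom.toAlgebra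
  letI : Algebra Γ(S, V) Γ(SymProd.fibPow f d, W) :=
    ((WidePullback.base (fun _ : Fin d => f)).appLE V W hWV).hom.toAlgebra
  letI : Algebra Γ(S, V) Γ(Y, W') := (g.appLE V W' hW'V).hom.toAlgebra
  have hW : IsAffineOpen W := hWc ▸ isAffineOpen_chart f d hU hV hUV
  have hWU : ∀ i, W ≤ (WidePullback.π (fun _ : Fin d => f) i) ⁻¹ᵁ U := fun i x hx =>
    ((mem_chart f d x).mp (hWc ▸ hx)).2 i
  obtain ⟨ε, -, hεσ⟩ := exists_tensor_equiv hU hV hUV hWc hW hWV hWU hWσ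
  obtain ⟨hinj, hrange⟩ := quot_sections hq W' e hWσ
  let qa : Γ(Y, W') →ₐ[Γ(S, V)] Γ(SymProd.fibPow f d, W) :=
    { (q.appLE W' W e.ge).hom with
      commutes' := fun r => by
        show (q.appLE W' W e.ge).hom ((g.appLE V W' hW'V).hom r) = _
        rw [appLE_comp_apply]
        exact appLE_congr_app hq.over V W _ r }
  let L : Γ(Y, W') →ₗ[Γ(S, V)] (⨂[Γ(S, V)] _ : Fin d, Γ(X, U)) := (ε.symm.toAlgHom.comp qa).toLinearMap
  have hmem : ∀ z, L z ∈ PolLaw.symTensor Γ(S, V) Γ(X, U) d := fun z => PolLaw.mem_symTensor.mpr fun σ => by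
    have h := hεσ σ.symm (L z)
    rw [Equiv.symm_symm] at h
    have hL : ε (L z) = (q.appLE W' W e.ge).hom z := ε.apply_symm_apply _
    refine ε.injective ?_
    rw [← h, hL]
    exact (hrange _).mp ⟨z, rfl⟩ σ.symm
  let L' := L.codRestrict _ hmem
  have hL' : Function.Bijective L' := by
    refine ⟨fun a b h => hinj (ε.symm.injective (congrArg Subtype.val h)), fun t => ?_⟩
    obtain ⟨z, hz⟩ := (hrange (ε t.1)).mpr fun σ => by
      rw [hεσ, PolLaw.mem_symTensor.mp t.2]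
    exact ⟨z, Subtype.ext ((congrArg ε.symm hz).trans (ε.symm_apply_apply _))⟩
  exact ⟨ε, LinearEquiv.ofBijective L' hL', fun z => ε.apply_symm_apply _, hεσ⟩

theorem chart_le_base (f : X ⟶ S) (d : ℕ) (U : X.Opens) (V : S.Opens) :
    chart f d U V ≤ (WidePullback.base (fun _ : Fin d => f)) ⁻¹ᵁ V := fun x hx => ((mem_chart f d x).mp hx).1

theorem le_preimage_of_chart (hq : SymProd.IsSymProd f d q g) {U : X.Opens} {V : S.Opens} {W' : Y.Opens}
    (e : q ⁻¹ᵁ W' = chart f d U V) : W' ≤ g ⁻¹ᵁ V := fun z hz => by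
  obtain ⟨x, rfl⟩ := SGA1Quot21.surjective hq.isQuot z
  have hx : x ∈ q ⁻¹ᵁ W' := hz
  rw [e] at hx
  show g.base (q.base x) ∈ V
  rw [base_eq d hq x]
  exact chart_le_base f d U V hx

theorem flat_of_isAF [Flat f] (hAF : SymProd.IsAF f) (hq : SymProd.IsSymProd f d q g) : Flat g := by
  refine (HasRingHomProperty.iff_exists_appLE (P := @Flat) (Q := RingHom.Flat)
    (RingHom.Flat.stableUnderComposition.stableUnderCompositionWithLocalizationAway
      RingHom.Flat.holdsForLocalizationAway).1).mpr fun y => ?_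
  obtain ⟨_, ⟨V, hV, rfl⟩, hyV, -⟩ := S.isBasis_affineOpens.exists_subset_of_mem_open
    (Set.mem_univ (g.base y)) isOpen_univ
  obtain ⟨U, hU, hUV, W', hyW', hW', e⟩ := exists_symProd_chart d hAF hq y hV hyV
  have hW'V := le_preimage_of_chart hq e
  refine ⟨⟨V, hV⟩, ⟨W', hW'⟩, hyW', hW'V, ?_⟩
  letI : Algebra Γ(S, V) Γ(X, U) := (f.appLE V U hUV).hom.toAlgebra
  haveI : Module.Flat Γ(S, V) Γ(X, U) := f.flat_appLE hV hU hUV
  letI : Algebra Γ(S, V) Γ(Y, W') := (g.appLE V W' hW'V).hom.toAlgebra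
  show Module.Flat Γ(S, V) Γ(Y, W')
  obtain ⟨-, L, -, -⟩ := exists_symTensor_equiv hq hU hV hUV rfl e (chart_le_base f d U V)
    (fun σ => (preimage_chart f d U V σ).ge) hW'V
  haveI := PolLaw.flat_symTensor (A := Γ(S, V)) (M := Γ(X, U)) (d := d)
  exact Module.Flat.of_linearEquiv L

end GrothLib.SymAF26
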