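import Groth.Prelude.Def_SymProd
import Mathlib.AlgebraicGeometry.Limits

/-!
Properties of the structure map of a fibre power.
-/

universe u

open CategoryTheory CategoryTheory.Limits AlgebraicGeometry

set_option maxHeartbeats 400000

namespace GrothLib.SymAF26

variable {X S : Scheme.{u}} (f : X ⟶ S)

/-- The structure map of the empty fibre power is an isomorphism. -/
theorem isIso_base_zero : IsIso (WidePullback.base (fun _ : Fin 0 => f)) :=
  ⟨WidePullback.lift (objs := fun _ : Fin 0 => X) (𝟙 S) (fun i => i.elim0) (fun i => i.elim0),
    WidePullback.hom_ext _ _ _ (fun i => i.elim0) (by rw [Category.assoc, WidePullback.lift_base, Category.comp_id,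
      Category.id_comp]),
    WidePullback.lift_base _ _ _ _⟩

/-- The fibre power as an iterated fibre product. -/
theorem exists_iso_succ (n : ℕ) : ∃ e : SymProd.fibPow f (n + 1) ≅
      pullback (WidePullback.base (fun _ : Fin n => f)) f,
    e.hom ≫ pullback.fst _ _ ≫ WidePullback.base (fun _ : Fin n => f) = WidePullback.base (fun _ : Fin (n + 1) => f) := by
  let init : SymProd.fibPow f (n + 1) ⟶ SymProd.fibPow f n :=
    WidePullback.lift (WidePullback.base _) (fun i => WidePullback.π (fun _ : Fin (n + 1) => f) i.castSucc)
      (fun i => WidePullback.π_arrow _ _)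
  let a : SymProd.fibPow f (n + 1) ⟶ pullback (WidePullback.base (fun _ : Fin n => f)) f :=
    pullback.lift init (WidePullback.π (fun _ : Fin (n + 1) => f) (Fin.last n))
      (by rw [WidePullback.lift_base, WidePullback.π_arrow])
  let comp : Fin (n + 1) → (pullback (WidePullback.base (fun _ : Fin n => f)) f ⟶ X) :=
    Fin.lastCases (pullback.snd _ _) (fun i => pullback.fst _ _ ≫ WidePullback.π (fun _ : Fin n => f) i)
  let b : pullback (WidePullback.base (fun _ : Fin n => f)) f ⟶ SymProd.fibPow f (n + 1) :=
    WidePullback.lift (pullback.fst _ _ ≫ WidePullback.base (fun _ : Fin n => f)) comp (fun i => by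
      induction i using Fin.lastCases with
      | last => simp only [comp, Fin.lastCases_last]; exact pullback.condition.symm
      | cast i => simp only [comp, Fin.lastCases_castSucc, Category.assoc, WidePullback.π_arrow])
  refine ⟨⟨a, b, ?_, ?_⟩, ?_⟩
  · refine WidePullback.hom_ext _ _ _ (fun i => ?_) ?_
    · rw [Category.assoc, WidePullback.lift_π, Category.id_comp]
      induction i using Fin.lastCases with
      | last => simp only [comp, Fin.lastCases_last, a, pullback.lift_snd]
      | cast i => simp only [comp, Fin.lastCases_castSucc, a, pullback.lift_fst_assoc, init, WidePullback.lift_π]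
    · rw [Category.assoc, WidePullback.lift_base, pullback.lift_fst_assoc, WidePullback.lift_base, Category.id_comp]
  · refine pullback.hom_ext ?_ ?_
    · rw [Category.assoc, pullback.lift_fst, Category.id_comp]
      refine WidePullback.hom_ext _ _ _ (fun i => ?_) ?_
      · rw [Category.assoc, WidePullback.lift_π, WidePullback.lift_π]
        exact Fin.lastCases_castSucc ..
      · rw [Category.assoc, WidePullback.lift_base, WidePullback.lift_base]
    · rw [Category.assoc, pullback.lift_snd, Category.id_comp, WidePullback.lift_π]
      exact Fin.lastCases_last ..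
  · show a ≫ _ = _
    rw [pullback.lift_fst_assoc, WidePullback.lift_base]

/-- A property stable under base change and composition passes to fibre powers. -/
theorem prop_base (P : MorphismProperty Scheme.{u}) [P.IsStableUnderBaseChange] [P.IsStableUnderComposition]
    [P.ContainsIdentities] (h : P f) : ∀ n, P (WidePullback.base (fun _ : Fin n => f))
  | 0 => by
    haveI := isIso_base_zero f
    exact P.of_isIso _
  | n + 1 => by
    obtain ⟨e, he⟩ := exists_iso_succ f n
    rw [← he]
    exact (P.cancel_left_of_respectsIso e.hom _).mpr
      (P.comp_mem _ _ (P.pullback_fst _ _ h) (prop_base P h n))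

end GrothLib.SymAF26
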