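import Groth.Agent.Lib.SymAF26.CurveFree
import Groth.Agent.Lib.SymAF26.CurvePoint
import Groth.Agent.Lib.SymAF26.Flat
import Groth.Agent.Lib.SymAF26.PropBase
import Groth.Agent.Lib.FEt21.Affine
import Mathlib.AlgebraicGeometry.AlgClosed.Basic
import Mathlib.AlgebraicGeometry.Morphisms.Smooth
import Mathlib.AlgebraicGeometry.Morphisms.FlatRank

/-!
The quotient map to the symmetric power of a smooth curve over an algebraically closed field.
-/

universe u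

open CategoryTheory CategoryTheory.Limits AlgebraicGeometry TensorProduct

set_option maxHeartbeats 1000000
set_option backward.isDefEq.respectTransparency false

namespace GrothLib.SymAF26

variable {k : Type u} [Field k] [IsAlgClosed k] {C Y : Scheme.{u}} {f : C ⟶ Spec (CommRingCat.of k)}
  {n : ℕ} {q : SymProd.fibPow f n ⟶ Y} {g : Y ⟶ Spec (CommRingCat.of k)}

/-- Near a closed point the quotient map is free of rank `n!`. -/
theorem exists_free_nbhd [SmoothOfRelativeDimension 1 f] (hAF : SymProd.IsAF f)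
    (hq : SymProd.IsSymProd f n q g) [IsFinite q]
    [LocallyOfFiniteType (WidePullback.base (fun _ : Fin n => f))]
    (x : ↥(SymProd.fibPow f n)) (hx : IsClosed {x}) :
    ∃ W : Y.Opens, IsAffineOpen W ∧ q x ∈ W ∧ (q.app W).hom.Flat ∧
      ∀ p, (q.app W).hom.finrank p = n.factorial := by
  classical
  haveI : Smooth f := SmoothOfRelativeDimension.smooth (n := 1) f
  let S := Spec (CommRingCat.of k)
  have hR : IsField Γ(S, ⊤) :=
    MulEquiv.isField (Field.toIsField k) (Scheme.ΓSpecIso (CommRingCat.of k)).commRingCatIsoToRingEquiv.toMulEquiv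
  letI : Field Γ(S, ⊤) := hR.toField
  haveI : IsAlgClosed Γ(S, ⊤) :=
    IsAlgClosed.of_ringEquiv k Γ(S, ⊤) (Scheme.ΓSpecIso (CommRingCat.of k)).commRingCatIsoToRingEquiv.symm
  let ξ := pointOfClosedPoint (WidePullback.base (fun _ : Fin n => f)) x hx
  have hξ : ∀ a, ξ a = x := fun a => pointOfClosedPoint_apply _ _ _ a
  have hξb : ξ ≫ WidePullback.base (fun _ : Fin n => f) = 𝟙 S := pointOfClosedPoint_comp _ _ _
  let π := fun i => WidePullback.π (fun _ : Fin n => f) i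
  have hV : IsAffineOpen (⊤ : S.Opens) := isAffineOpen_top S
  obtain ⟨U, hU, hUV, hxU⟩ := exists_chart n hAF x (V := (⊤ : S.Opens)) trivial
  have hpU : ∀ i, ⊤ ≤ (ξ ≫ π i) ⁻¹ᵁ U := fun i z _ => by
    show π i (ξ z) ∈ U
    rw [hξ]
    exact ((mem_chart f n x).mp hxU).2 i
  letI : Algebra Γ(S, ⊤) Γ(C, U) := (f.appLE ⊤ U hUV).hom.toAlgebra
  haveI : Algebra.Smooth Γ(S, ⊤) Γ(C, U) :=
    HasRingHomProperty.appLE @Smooth f inferInstance ⟨⊤, hV⟩ ⟨U, hU⟩ hUV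
  have hsm : RingHom.Locally (RingHom.IsStandardSmoothOfRelativeDimension 1) (algebraMap Γ(S, ⊤) Γ(C, U)) :=
    HasRingHomProperty.appLE (@SmoothOfRelativeDimension 1) f inferInstance ⟨⊤, hV⟩ ⟨U, hU⟩ hUV
  let ψ : Fin n → (Γ(C, U) →ₐ[Γ(S, ⊤)] Γ(S, ⊤)) := fun i =>
    { ((ξ ≫ π i).appLE U ⊤ (hpU i)).hom with
      commutes' := fun r => by
        show ((ξ ≫ π i).appLE U ⊤ (hpU i)).hom ((f.appLE ⊤ U hUV).hom r) = r
        rw [appLE_comp_apply]
        refine (appLE_congr_app (by rw [Category.assoc, WidePullback.π_arrow, hξb] :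
          (ξ ≫ π i) ≫ f = 𝟙 S) ⊤ ⊤ _ r).trans ?_
        simp [Scheme.Hom.appLE]
        rfl }
  obtain ⟨a, t, ha, hsep, het⟩ := exists_etale_separating hsm ψ
  let U' := C.basicOpen a
  have hU'U : U' ≤ U := C.basicOpen_le a
  have hU' : IsAffineOpen U' := hU.basicOpen a
  have hpU' : ∀ i, ⊤ ≤ (ξ ≫ π i) ⁻¹ᵁ U' := fun i z _ => by
    have hu : IsUnit (((ξ ≫ π i).appLE U ⊤ (hpU i)).hom a) := isUnit_iff_ne_zero.mpr (ha i)
    have hb := S.basicOpen_of_isUnit hu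
    have hz : z ∈ S.basicOpen (((ξ ≫ π i).appLE U ⊤ (hpU i)).hom a) := by rw [hb]; trivial
    rw [Scheme.basicOpen_appLE] at hz
    exact hz.2
  letI : Algebra Γ(S, ⊤) Γ(C, U') := (f.appLE ⊤ U' (hU'U.trans hUV)).hom.toAlgebra
  haveI : IsLocalization.Away a Γ(C, U') := hU.isLocalization_basicOpen a
  haveI : IsScalarTower Γ(S, ⊤) Γ(C, U) Γ(C, U') := .of_algebraMap_eq fun r =>
    (DFunLike.congr_fun (congrArg CommRingCat.Hom.hom
      (Scheme.Hom.appLE_map f hUV (homOfLE hU'U).op)) r).symm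
  haveI : Algebra.FiniteType Γ(S, ⊤) Γ(C, U') :=
    HasRingHomProperty.appLE @LocallyOfFiniteType f inferInstance ⟨⊤, hV⟩ ⟨U', hU'⟩ (hU'U.trans hUV)
  let t' : Γ(C, U') := algebraMap Γ(C, U) Γ(C, U') t
  letI : Algebra (Polynomial Γ(S, ⊤)) Γ(C, U') := (Polynomial.aeval (R := Γ(S, ⊤)) t').toRingHom.toAlgebra
  haveI : IsScalarTower Γ(S, ⊤) (Polynomial Γ(S, ⊤)) Γ(C, U') :=
    .of_algebraMap_eq fun r => ((Polynomial.aeval t').commutes r).symm
  haveI : Algebra.FormallyEtale (Polynomial Γ(S, ⊤)) Γ(C, U') := by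
    letI := (Polynomial.aeval (R := Γ(S, ⊤)) t).toRingHom.toAlgebra
    let e := IsLocalization.algEquiv (Submonoid.powers a) (Localization.Away a) Γ(C, U')
    let e' : Localization.Away a ≃ₐ[Polynomial Γ(S, ⊤)] Γ(C, U') :=
      { e.toRingEquiv with
        commutes' := fun p => by
          show e (algebraMap Γ(C, U) (Localization.Away a) (Polynomial.aeval t p)) = Polynomial.aeval t' p
          rw [AlgEquiv.commutes, Polynomial.aeval_algebraMap_apply] }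
    haveI := het
    exact Algebra.FormallyEtale.of_equiv e'
  let W₀ := chart f n U' ⊤
  obtain ⟨W₁, hW₁⟩ := SGA1Quot21.exists_opens_preimage hq.isQuot W₀ fun σ => by
    rw [SymProd.permActU_hom]; exact preimage_chart f n U' ⊤ σ.down
  have hWa : IsAffineOpen (q ⁻¹ᵁ W₁) := hW₁.symm ▸ isAffineOpen_chart f n hU' hV (hU'U.trans hUV)
  have hW₁a : IsAffineOpen W₁ := SGA1Quot21.isAffineOpen_of_preimage hq.isQuot hWa
  have hxW : x ∈ q ⁻¹ᵁ W₁ := by
    rw [hW₁, mem_chart]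
    refine ⟨trivial, fun i => ?_⟩
    have h := hpU' i (Set.mem_univ default : default ∈ (⊤ : S.Opens))
    rw [← hξ default]
    exact h
  have hWU : ∀ i, q ⁻¹ᵁ W₁ ≤ π i ⁻¹ᵁ U' := fun i z hz => ((mem_chart f n z).mp (hW₁ ▸ hz)).2 i
  have hWσ : ∀ σ, q ⁻¹ᵁ W₁ ≤ SymProd.permHom f n σ ⁻¹ᵁ (q ⁻¹ᵁ W₁) := fun σ => by
    rw [hW₁]; exact (preimage_chart f n U' ⊤ σ).ge
  letI : Algebra Γ(S, ⊤) Γ(SymProd.fibPow f n, q ⁻¹ᵁ W₁) :=
    ((WidePullback.base (fun _ : Fin n => f)).appLE ⊤ (q ⁻¹ᵁ W₁) le_top).hom.toAlgebra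
  obtain ⟨ε, hεt, hεσ⟩ := exists_tensor_equiv hU' hV (hU'U.trans hUV) hW₁ hWa le_top hWU hWσ
  obtain ⟨hinj, hrange⟩ := quot_sections hq W₁ rfl hWσ
  have hξW : ⊤ ≤ ξ ⁻¹ᵁ (q ⁻¹ᵁ W₁) := fun z _ => by
    show ξ z ∈ q ⁻¹ᵁ W₁
    rw [hξ]; exact hxW
  let χ : (⨂[Γ(S, ⊤)] _ : Fin n, Γ(C, U')) →ₐ[Γ(S, ⊤)] Γ(S, ⊤) :=
    { (ξ.appLE (q ⁻¹ᵁ W₁) ⊤ hξW).hom.comp ε.toRingEquiv.toRingHom with
      commutes' := fun r => by
        show (ξ.appLE (q ⁻¹ᵁ W₁) ⊤ hξW).hom (ε (algebraMap _ _ r)) = r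
        rw [AlgEquiv.commutes]
        show (ξ.appLE (q ⁻¹ᵁ W₁) ⊤ hξW).hom
          (((WidePullback.base (fun _ : Fin n => f)).appLE ⊤ (q ⁻¹ᵁ W₁) le_top).hom r) = r
        rw [appLE_comp_apply]
        refine (appLE_congr_app hξb ⊤ ⊤ _ r).trans ?_
        simp [Scheme.Hom.appLE]
        rfl }
  have hχ : ∀ i (c : Γ(C, U')), χ (PiTensorProduct.singleAlgHom (R := Γ(S, ⊤))
      (A := fun _ : Fin n => Γ(C, U')) i c) = ((ξ ≫ π i).appLE U' ⊤ (hpU' i)).hom c := fun i c => by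
    show (ξ.appLE (q ⁻¹ᵁ W₁) ⊤ hξW).hom (ε _) = _
    rw [PiTensorProduct.singleAlgHom_apply, hεt, Finset.prod_eq_single i]
    · rw [MonoidHom.mulSingle_apply, Pi.mulSingle_eq_same, appLE_comp_apply]
    · intro j _ hj; rw [MonoidHom.mulSingle_apply, Pi.mulSingle_eq_of_ne hj, map_one]
    · simp
  have hres : ∀ i (c : Γ(C, U)), ((ξ ≫ π i).appLE U' ⊤ (hpU' i)).hom (algebraMap Γ(C, U) Γ(C, U') c) = ψ i c :=
    fun i c => DFunLike.congr_fun (congrArg CommRingCat.Hom.hom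
      (Scheme.Hom.map_appLE (ξ ≫ π i) (hpU' i) (homOfLE hU'U).op)) c
  have hχsep : ∀ i j, χ (PiTensorProduct.singleAlgHom (R := Γ(S, ⊤)) (A := fun _ : Fin n => Γ(C, U')) i t') =
      χ (PiTensorProduct.singleAlgHom (R := Γ(S, ⊤)) (A := fun _ : Fin n => Γ(C, U')) j t') →
      ∀ c, χ (PiTensorProduct.singleAlgHom (R := Γ(S, ⊤)) (A := fun _ : Fin n => Γ(C, U')) i c) =
        χ (PiTensorProduct.singleAlgHom (R := Γ(S, ⊤)) (A := fun _ : Fin n => Γ(C, U')) j c) := by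
    intro i j hij c
    rw [hχ, hχ, hres, hres] at hij
    have heq := hsep i j hij
    rw [hχ, hχ]
    refine RingHom.congr_fun (IsLocalization.ringHom_ext (Submonoid.powers a) (RingHom.ext fun c => ?_) :
      ((ξ ≫ π i).appLE U' ⊤ (hpU' i)).hom = ((ξ ≫ π j).appLE U' ⊤ (hpU' j)).hom) c
    exact (hres i c).trans ((AlgHom.congr_fun heq c).trans (hres j c).symm)
  have hqa : q.appLE W₁ (q ⁻¹ᵁ W₁) le_rfl = q.app W₁ := (Scheme.Hom.app_eq_appLE _).symm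
  letI : Algebra Γ(Y, W₁) Γ(SymProd.fibPow f n, q ⁻¹ᵁ W₁) := (q.app W₁).hom.toAlgebra
  obtain ⟨v, s, hs, hli, hspan⟩ := exists_free_near n t' (by
      show Polynomial.aeval t' Polynomial.X = t'
      exact Polynomial.aeval_X t') ε.toRingEquiv (q.app W₁).hom (hqa ▸ hinj)
    (fun p => by
      rw [← hqa, hrange p, SymTen.mem_TS_iff]
      refine ⟨fun h σ => ?_, fun h σ => ?_⟩
      · have h1 := hεσ σ.symm (ε.symm p)
        rw [ε.apply_symm_apply, h, Equiv.symm_symm] at h1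
        exact ε.injective (h1.symm.trans (ε.apply_symm_apply p).symm)
      · have h1 := hεσ σ (ε.symm p)
        rw [ε.apply_symm_apply, show PiTensorProduct.reindex _ _ σ.symm (ε.symm p) = ε.symm p from h σ.symm,
          ε.apply_symm_apply] at h1
        exact h1)
    χ hχsep
  let W₂ := Y.basicOpen s
  have hW₂W₁ : W₂ ≤ W₁ := Y.basicOpen_le s
  have hpre : q ⁻¹ᵁ W₂ = (SymProd.fibPow f n).basicOpen ((q.app W₁).hom s) := Scheme.preimage_basicOpen q s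
  have hxW₂ : x ∈ q ⁻¹ᵁ W₂ := by
    have hu : IsUnit ((ξ.appLE (q ⁻¹ᵁ W₁) ⊤ hξW).hom ((q.app W₁).hom s)) := by
      refine isUnit_iff_ne_zero.mpr fun h0 => hs ?_
      show (ξ.appLE (q ⁻¹ᵁ W₁) ⊤ hξW).hom (ε (ε.symm _)) = 0
      rw [ε.apply_symm_apply]; exact h0
    have hb := S.basicOpen_of_isUnit hu
    have hz : default ∈ S.basicOpen ((ξ.appLE (q ⁻¹ᵁ W₁) ⊤ hξW).hom ((q.app W₁).hom s)) := by rw [hb]; trivial
    rw [Scheme.basicOpen_appLE] at hz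
    rw [hpre, ← hξ default]
    exact hz.2
  have hi : q ⁻¹ᵁ W₂ ≤ q ⁻¹ᵁ W₁ := q.preimage_mono hW₂W₁
  letI : Algebra Γ(Y, W₁) Γ(Y, W₂) := (Y.presheaf.map (homOfLE hW₂W₁).op).hom.toAlgebra
  haveI : IsLocalization.Away s Γ(Y, W₂) := hW₁a.isLocalization_basicOpen s
  letI : Algebra Γ(SymProd.fibPow f n, q ⁻¹ᵁ W₁) Γ(SymProd.fibPow f n, q ⁻¹ᵁ W₂) :=
    ((SymProd.fibPow f n).presheaf.map (homOfLE hi).op).hom.toAlgebra
  haveI : IsLocalization.Away (algebraMap Γ(Y, W₁) Γ(SymProd.fibPow f n, q ⁻¹ᵁ W₁) s)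
      Γ(SymProd.fibPow f n, q ⁻¹ᵁ W₂) := hWa.isLocalization_of_eq_basicOpen _ (homOfLE hi) hpre
  letI : Algebra Γ(Y, W₂) Γ(SymProd.fibPow f n, q ⁻¹ᵁ W₂) := (q.app W₂).hom.toAlgebra
  letI : Algebra Γ(Y, W₁) Γ(SymProd.fibPow f n, q ⁻¹ᵁ W₂) :=
    (q.app W₁ ≫ (SymProd.fibPow f n).presheaf.map (homOfLE hi).op).hom.toAlgebra
  haveI : IsScalarTower Γ(Y, W₁) Γ(SymProd.fibPow f n, q ⁻¹ᵁ W₁) Γ(SymProd.fibPow f n, q ⁻¹ᵁ W₂) :=
    .of_algebraMap_eq fun _ => rfl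
  haveI : IsScalarTower Γ(Y, W₁) Γ(Y, W₂) Γ(SymProd.fibPow f n, q ⁻¹ᵁ W₂) := .of_algebraMap_eq fun r =>
    (DFunLike.congr_fun (congrArg CommRingCat.Hom.hom (q.naturality (homOfLE hW₂W₁).op)) r).symm
  obtain ⟨b⟩ := exists_basis_away v s hli hspan Γ(Y, W₂) Γ(SymProd.fibPow f n, q ⁻¹ᵁ W₂)
  obtain ⟨-, hfl, hrk⟩ := flat_finrank_of_basis b
  refine ⟨W₂, hW₁a.basicOpen s, hxW₂, hfl, fun p => ?_⟩
  rw [Fintype.card_perm, Fintype.card_fin] at hrk
  exact hrk p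

/-- Over an algebraically closed field, the quotient map is flat of rank `n!`. -/
theorem flat_finrank_field [SmoothOfRelativeDimension 1 f] (hAF : SymProd.IsAF f)
    (hq : SymProd.IsSymProd f n q g) [IsFinite q] [LocallyOfFiniteType g] :
    Flat q ∧ ∀ y, q.finrank y = n.factorial := by
  haveI : Smooth f := SmoothOfRelativeDimension.smooth (n := 1) f
  haveI : LocallyOfFiniteType (WidePullback.base (fun _ : Fin n => f)) :=
    prop_base f @LocallyOfFiniteType inferInstance n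
  haveI : JacobsonSpace ↥Y := LocallyOfFiniteType.jacobsonSpace g
  haveI : JacobsonSpace ↥(SymProd.fibPow f n) :=
    LocallyOfFiniteType.jacobsonSpace (WidePullback.base (fun _ : Fin n => f))
  have hgood : ∀ y : Y, ∃ W : Y.Opens, IsAffineOpen W ∧ y ∈ W ∧ (q.app W).hom.Flat ∧
      ∀ p, (q.app W).hom.finrank p = n.factorial := by
    let G : Set Y := {y | ∃ W : Y.Opens, IsAffineOpen W ∧ y ∈ W ∧ (q.app W).hom.Flat ∧
      ∀ p, (q.app W).hom.finrank p = n.factorial}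
    have hG : IsOpen G := isOpen_iff_forall_mem_open.mpr fun y ⟨W, hW, hy, h⟩ =>
      ⟨W, fun z hz => ⟨W, hW, hz, h⟩, W.isOpen, hy⟩
    by_contra hne
    push Not at hne
    obtain ⟨y₀, hy₀⟩ := hne
    obtain ⟨y, hy, hyc⟩ := nonempty_inter_closedPoints (Z := Gᶜ)
      ⟨y₀, fun ⟨W, hW, hy, hfl, hrk⟩ => by obtain ⟨p, hp⟩ := hy₀ W hW hy hfl; exact hp (hrk p)⟩
      hG.isClosed_compl.isLocallyClosed
    obtain ⟨x₀, hx₀⟩ := SGA1Quot21.surjective hq.isQuot y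
    obtain ⟨x, hx, hxc⟩ := nonempty_inter_closedPoints (Z := q ⁻¹' {y}) ⟨x₀, hx₀⟩
      ((IsClosed.preimage q.continuous hyc).isLocallyClosed)
    obtain ⟨W, hW, hxW, h⟩ := exists_free_nbhd hAF hq x hxc
    exact hy ⟨W, hW, (show q x = y from hx) ▸ hxW, h⟩
  haveI hflat : Flat q := by
    refine (HasRingHomProperty.iff_exists_appLE (P := @Flat) (Q := RingHom.Flat)
      (RingHom.Flat.stableUnderComposition.stableUnderCompositionWithLocalizationAway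
        RingHom.Flat.holdsForLocalizationAway).1).mpr fun x => ?_
    obtain ⟨W, hW, hxW, hfl, -⟩ := hgood (q x)
    exact ⟨⟨W, hW⟩, ⟨q ⁻¹ᵁ W, hW.preimage q⟩, hxW, le_rfl, by rw [← Scheme.Hom.app_eq_appLE]; exact hfl⟩
  refine ⟨hflat, fun y => ?_⟩
  obtain ⟨W, hW, hyW, hfl, hrk⟩ := hgood y
  obtain ⟨p, rfl⟩ : y ∈ Set.range hW.fromSpec := hW.range_fromSpec.symm ▸ hyW
  rw [← Scheme.Hom.finrank_of_isPullback _ _ _ _ (FEt21.isPullback_app q hW) p,
    Scheme.Hom.finrank_SpecMap_eq_finrank (IsFinite.finite_app q W hW) hfl]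
  exact hrk p

end GrothLib.SymAF26
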