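import Groth.Agent.Lib.SymAF26.CurveAlg
import Mathlib.RingTheory.Localization.Away.Basic
import Mathlib.RingTheory.Localization.Module
import Mathlib.RingTheory.Spectrum.Prime.FreeLocus
import Mathlib.RingTheory.Flat.Rank

/-!
From a generic basis to a free localisation.
-/

universe u

open TensorProduct

set_option maxHeartbeats 400000

namespace GrothLib.SymAF26

/-- Independent elements spanning after multiplication by `s` give a basis after inverting `s`. -/
theorem exists_basis_away {B P : Type u} [CommRing B] [CommRing P] [Algebra B P] {ι : Type} [Finite ι]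
    (v : ι → P) (s : B) (hv : LinearIndependent B v) (hspan : ∀ x, s • x ∈ Submodule.span B (Set.range v))
    (Bs Ps : Type u) [CommRing Bs] [CommRing Ps] [Algebra B Bs] [IsLocalization.Away s Bs]
    [Algebra P Ps] [IsLocalization.Away (algebraMap B P s) Ps] [Algebra Bs Ps] [Algebra B Ps]
    [IsScalarTower B Bs Ps] [IsScalarTower B P Ps] :
    Nonempty (Module.Basis ι Bs Ps) := by
  haveI : IsLocalization (Algebra.algebraMapSubmonoid P (Submonoid.powers s)) Ps := by
    rw [Algebra.algebraMapSubmonoid_powers]; assumption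
  let f := (IsScalarTower.toAlgHom B P Ps).toLinearMap
  haveI : IsLocalizedModule (Submonoid.powers s) f := isLocalizedModule_iff_isLocalization.mpr ‹_›
  refine ⟨Module.Basis.mk (v := f ∘ v) (hv.of_isLocalizedModule Bs (Submonoid.powers s) f) ?_⟩
  intro x _
  obtain ⟨⟨p, ⟨_, m, rfl⟩⟩, hp⟩ := IsLocalizedModule.surj (Submonoid.powers s) f x
  have hf : f (s • p) ∈ Submodule.span Bs (Set.range (f ∘ v)) := by
    have h := Submodule.mem_map_of_mem (f := f) (hspan p)
    rw [Submodule.map_span, ← Set.range_comp] at h
    exact Submodule.span_le_restrictScalars B Bs _ h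
  rw [map_smul] at hf
  rw [show f p = s ^ m • x from hp.symm, ← mul_smul, ← algebraMap_smul Bs, map_mul, map_pow] at hf
  have hu : IsUnit (algebraMap B Bs s * algebraMap B Bs s ^ m) :=
    (IsLocalization.Away.algebraMap_isUnit s).mul ((IsLocalization.Away.algebraMap_isUnit s).pow m)
  exact (Submodule.smul_mem_iff_of_isUnit _ hu).mp hf

/-- A basis makes a ring map flat of constant rank. -/
theorem flat_finrank_of_basis {R S : Type u} [CommRing R] [CommRing S] [Algebra R S] {ι : Type} [Fintype ι]
    (b : Module.Basis ι R S) :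
    (algebraMap R S).Finite ∧ (algebraMap R S).Flat ∧ ∀ p, (algebraMap R S).finrank p = Fintype.card ι := by
  haveI := Module.Finite.of_basis b
  haveI := Module.Free.of_basis b
  refine ⟨RingHom.finite_algebraMap.mpr inferInstance, RingHom.flat_algebraMap_iff.mpr inferInstance, fun p => ?_⟩
  rw [RingHom.finrank_algebraMap]
  haveI : Nontrivial R := p.nontrivial
  simp [Module.rankAtStalk_eq_finrank_of_free, Module.finrank_eq_card_basis b]

variable {k : Type u} [Field k] [IsAlgClosed k] {A : Type u} [CommRing A] [Algebra k A] [Algebra.FiniteType k A]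
  (n : ℕ) (t : A) [Algebra (Polynomial k) A] [IsScalarTower k (Polynomial k) A]
  [Algebra.FormallyEtale (Polynomial k) A] (ht : algebraMap (Polynomial k) A Polynomial.X = t)

include ht in
/-- Transport of the generic basis along identifications of the tensor power and of its invariants. -/
theorem exists_free_near {P B : Type u} [CommRing P] [CommRing B] (ε : (⨂[k] _ : Fin n, A) ≃+* P)
    (qB : B →+* P) (hinj : Function.Injective qB)
    (hrange : ∀ p, p ∈ Set.range qB ↔ ε.symm p ∈ SymTen.TS k A n)
    (χ : (⨂[k] _ : Fin n, A) →ₐ[k] k)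
    (hsep : ∀ i j, χ (PiTensorProduct.singleAlgHom (R := k) (A := fun _ : Fin n => A) i t) =
        χ (PiTensorProduct.singleAlgHom (R := k) (A := fun _ : Fin n => A) j t) →
      ∀ a, χ (PiTensorProduct.singleAlgHom (R := k) (A := fun _ : Fin n => A) i a) =
        χ (PiTensorProduct.singleAlgHom (R := k) (A := fun _ : Fin n => A) j a)) :
    letI := qB.toAlgebra
    ∃ (v : Equiv.Perm (Fin n) → P) (s : B),
      χ (ε.symm (qB s)) ≠ 0 ∧ LinearIndependent B v ∧ ∀ x, s • x ∈ Submodule.span B (Set.range v) := by
  letI := qB.toAlgebra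
  obtain ⟨v, s, hs, hli, hspan⟩ := exists_basis_near n t ht χ hsep
  have hlift : ∀ x : SymTen.TS k A n, ∃ b : B, qB b = ε x.1 := fun x =>
    (hrange _).mpr (by rw [ε.symm_apply_apply]; exact x.2)
  choose lift hlift' using hlift
  refine ⟨fun j => ε (v j), lift s, ?_, ?_, fun x => ?_⟩
  · rw [hlift', ε.symm_apply_apply]; exact hs
  · classical
    rw [Fintype.linearIndependent_iff]
    intro c hc j
    let c' : Equiv.Perm (Fin n) → SymTen.TS k A n := fun j =>
      ⟨ε.symm (qB (c j)), (hrange _).mp ⟨c j, rfl⟩⟩
    have h : ∑ j, c' j • v j = 0 := by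
      apply ε.injective
      rw [map_sum, map_zero, ← hc]
      refine Finset.sum_congr rfl fun j _ => ?_
      show ε ((c' j).1 * v j) = qB (c j) * ε (v j)
      rw [map_mul]
      exact congrArg (· * _) (ε.apply_symm_apply _)
    have h0 := congrArg (fun z : SymTen.TS k A n => ε z.1) (Fintype.linearIndependent_iff.mp hli c' h j)
    simp only [c', ε.apply_symm_apply, ZeroMemClass.coe_zero, map_zero] at h0
    exact hinj (h0.trans (map_zero qB).symm)
  · obtain ⟨c, hc⟩ := (Submodule.mem_span_range_iff_exists_fun _).mp (hspan (ε.symm x))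
    refine (Submodule.mem_span_range_iff_exists_fun B).mpr ⟨fun j => lift (c j), ?_⟩
    have h := congrArg ε hc
    rw [map_sum] at h
    refine Eq.trans ?_ (h.trans ?_)
    · refine Finset.sum_congr rfl fun j _ => ?_
      show qB (lift (c j)) * ε (v j) = ε ((c j).1 * v j)
      rw [hlift', map_mul]
    · show ε (s.1 * ε.symm x) = qB (lift s) * x
      rw [map_mul, ε.apply_symm_apply, hlift']

end GrothLib.SymAF26
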