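import Groth.Agent.Lib.GrassPres27.Main
import Mathlib.LinearAlgebra.Matrix.ToLinearEquiv
import Mathlib.LinearAlgebra.LinearIndependent.Lemmas
import Mathlib.RingTheory.MvPolynomial.Symmetric.Defs
import Mathlib.Data.Fintype.Perm

/-!
A polynomial basis over the symmetric polynomials, with non-vanishing conjugate determinant.
-/

universe u

open MvPolynomial

set_option maxHeartbeats 400000

namespace GrothLib.SymAF26

open GrothLib.GrassPres27

theorem rename_lin (R : Type u) [CommRing R] (n : ℕ) (σ : Equiv.Perm (Fin n)) :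
    PowerSeries.map (rename σ : MvPolynomial (Fin n) R →ₐ[R] _).toRingHom (lin R n) = lin R n := by
  simp only [lin, map_prod]
  exact Fintype.prod_equiv σ _ _ fun i => by simp

theorem rename_phi (R : Type u) [CommRing R] (n : ℕ) (σ : Equiv.Perm (Fin n))
    (r : MvPolynomial (Fin n) R) : rename σ (phi R n r) = phi R n r := by
  refine AlgHom.congr_fun (MvPolynomial.algHom_ext fun i => ?_ :
    (rename σ : MvPolynomial (Fin n) R →ₐ[R] _).comp (phi R n) = phi R n) r
  rw [AlgHom.comp_apply, phi, aeval_X]
  have h := congrArg (PowerSeries.coeff ((i : ℕ) + 1)) (rename_lin R n σ)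
  rwa [PowerSeries.coeff_map] at h

theorem card_exps (n : ℕ) : Fintype.card (Exps n) = n.factorial := by
  rw [Fintype.card_pi]
  simp only [Fintype.card_fin]
  rw [Fin.prod_univ_eq_prod_range (fun i => 1 + i), ← Finset.prod_range_add_one_eq_factorial]
  exact Finset.prod_congr rfl fun i _ => add_comm 1 i

/-- There are `n!` polynomials spanning all polynomials over the symmetric ones, whose matrix of conjugates has
non-zero determinant. -/
theorem exists_symm_basis (k : Type u) [Field k] (n : ℕ) :
    ∃ v : Equiv.Perm (Fin n) → MvPolynomial (Fin n) k,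
      (∀ p, ∃ r : Equiv.Perm (Fin n) → MvPolynomial (Fin n) k, (∀ j, (r j).IsSymmetric) ∧ ∑ j, r j * v j = p) ∧
      (Matrix.of fun σ j : Equiv.Perm (Fin n) => rename σ (v j)).det ≠ 0 := by
  classical
  obtain ⟨b, hb⟩ := exists_artBasis k n
  let e : Equiv.Perm (Fin n) ≃ Exps n := Fintype.equivOfCardEq (by
    rw [Fintype.card_perm, Fintype.card_fin, card_exps])
  refine ⟨fun j => stdMon (e j), fun p => ?_, fun hdet => ?_⟩
  · refine ⟨fun j => phi k n (b.repr (toArt k n p) (e j)), fun j σ => rename_phi k n σ _,
      (toArt_bijective k n).1 ?_⟩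
    rw [e.sum_comp (fun a => phi k n (b.repr (toArt k n p) a) * stdMon a)]
    conv_rhs => rw [← b.sum_repr (toArt k n p)]
    rw [map_sum]
    refine Finset.sum_congr rfl fun a _ => ?_
    rw [map_mul, hb, ← algebraMap_eq_toArt]
    exact (Algebra.smul_def _ _).symm
  · obtain ⟨a, ha, h0⟩ := Matrix.exists_vecMul_eq_zero_iff.mpr hdet
    let f : Equiv.Perm (Fin n) → (MvPolynomial (Fin n) k →* MvPolynomial (Fin n) k) := fun σ =>
      ((rename σ : MvPolynomial (Fin n) k →ₐ[k] _) : MvPolynomial (Fin n) k →* MvPolynomial (Fin n) k)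
    have hf : Function.Injective f := fun σ τ h => Equiv.ext fun i => by
      have := DFunLike.congr_fun h (X i)
      simpa [f] using this
    have hli := (linearIndependent_monoidHom (MvPolynomial (Fin n) k) (MvPolynomial (Fin n) k)).comp f hf
    refine ha (funext fun σ => Fintype.linearIndependent_iff.mp hli a (funext fun p => ?_) σ)
    obtain ⟨r, hr, rfl⟩ : ∃ r : Equiv.Perm (Fin n) → MvPolynomial (Fin n) k,
        (∀ j, (r j).IsSymmetric) ∧ ∑ j, r j * stdMon (e j) = p := by
      refine ⟨fun j => phi k n (b.repr (toArt k n p) (e j)), fun j σ => rename_phi k n σ _,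
        (toArt_bijective k n).1 ?_⟩
      rw [e.sum_comp (fun a => phi k n (b.repr (toArt k n p) a) * stdMon a)]
      conv_rhs => rw [← b.sum_repr (toArt k n p)]
      rw [map_sum]
      refine Finset.sum_congr rfl fun a _ => ?_
      rw [map_mul, hb, ← algebraMap_eq_toArt]
      exact (Algebra.smul_def _ _).symm
    simp only [Finset.sum_apply, Pi.smul_apply, Function.comp_apply, f, MonoidHom.coe_coe, map_sum, map_mul,
      smul_eq_mul, Pi.zero_apply]
    simp only [fun (σ : Equiv.Perm (Fin n)) j => hr j σ, Finset.mul_sum]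
    rw [Finset.sum_comm]
    refine Finset.sum_eq_zero fun j _ => ?_
    have hj : ∑ τ, a τ * rename τ (stdMon (e j)) = 0 := congrFun h0 j
    simp only [mul_left_comm (a _) (r j), ← Finset.mul_sum, hj, mul_zero]

end GrothLib.SymAF26
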